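import Cfsg.Agent.Lib.Computation.PermCode

/-!
Two elements of the cover (generated data).
-/

set_option autoImplicit false

namespace Cfsg.Agent.Lib.StdO8

/-- An element of order four of the cover. -/
def jC : Nat := 0x9da779d6749ea7b9e6789fa7f9f67c9ca739c670a1a87a1684a2a8ba2688a3a8fa368ca0a83a0680a5a97a5694a6a9ba6698a7a9fa769ca4a93a469099a67996649aa6b9a6689ba6f9b66c98a6398660adab7ad6b4aeabbae6b8afabfaf6bcacab3ac6b0b1ac7b16c4b2acbb26c8b3acfb36ccb0ac3b06c0b5ad7b56d4b6adbb66d8b7adfb76dcb4ad3b46d0a9aa7a96a4aaaabaa6a8abaafab6aca8aa3a86a08da378d6348ea3b8e6388fa3f8f63c8ca338c63091a479164492a4b9264893a4f9364c90a439064095a579565496a5b9665897a5f9765c94a539465089a27896248aa2b8a6288ba2f8b62c88a23886207d9f77d5f47e9fb7e5f87f9ff7f5fc7c9f37c5f081a078160482a0b8260883a0f8360c80a038060085a178561486a1b8661887a1f8761c84a1384610799e7795e47a9eb7a5e87b9ef7b5ec789e3785e05a0f15996357d4e5255a551455094074d3e4cd384bd2c4a9cc4a1254892071d1e449106e50e435b642db4429b24711a70d1845dc0455be451bc4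25b041dae419ac6ad056a5a8411a6409a4405a26850067d9e660fe659956519d3fd9b6699964d923f5903ed8e3e98c62cf9625885f0f65e9795e1763d5745cd72549873e185611835dd823dd805fd7e5c4f45bd6e5b4f35ad6a3c9df3c1dd59564771625856076d5e5455053dd8535585314b529d75217d5755c56dda56557559557655351d467594450dd5505d44fdd24f53c4d9354d1d04c93b4e939745374c53073d2e4b5ce4adcd4a5cb49d267292448dc9485c847dc644dbb445ba43db86dd0c6d5b3475c546dc4465c2705166fdbd6c5086bdad6a9a740da568da065d9c644fc63d8d6297b5d586605705b16977967224942e0161d03a2f8392f4873744017c6b1cc720e0980281a090bc3b07e294aa3703f1786a278c4338200a85036c3e17469274c33341f0a44f1348824c0602015110491c00237ce83a8611b4a3328d439056230972ec191e88b258ba060790f4c1270c23301e0a04e20c8f2b81110c481bc010c0c934ce3154b41e04211c6e0002f024c8348e2150b3228952e417380e13ac4612c62234a42a4040380f36036168650f09b0341d09ce6300ef204a82b4770ec9a0301c098bf3b88029cac378411806c284c7344230b4530b8b21d8d70d4591907535834160632640b06c25130822380501c103b47f298ab368e73a45c19ca2280c6340220b052218922c41427cc533c210ac51214912c0131144a1c4030cccb354e515cb71f47c210902bc121a0322d8312d47b3643716c66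

/-- A preimage of its conjugate by a reflection. -/
def jC2 : Nat := 0xb5a77935ec909e3b66789fadf796447aa4b9c6d0a9a878f61c8ca13aa688a3aaf8563486a3ba06a0ada978b60c88a03ae698a7abf8162482a2ba46b0b1a67975fc949f3b26689bacf7d6547ea5b986c0a5ab78362c80a23a66b8afa9f896048aa0bac69099ac77f65c7ca539a6c8b3a6f955f4969fbb06609dad77b64c78a439e6d8b7a7f915e4929ebb4670a1aa78763c84a33a26a8aba8f8d6148ea1ba86808da17ab68ca8a838e61887a3fa16a4a2aab84630919e7b767cb4a73925e87ba4f9d6d49eadb78640959f7b366cb0a63965f87fa5f996c49aacb7c65089a07af69caca938a60883a2fa56b4a6abb806207da579b6cc98ac37e658979ffb1664b2a6b945f081a27a76bca4ab3826288ba0fad694aea9b8860085a37a36aca0aa3866388fa1fa9684aaa8b8c61079a479f6dc9cad37a648939efb5674b6a7b905e05e952535785417b760f6539795457c5dd4f6d50b4c9114d52b431b2659b66a5946e1d072db36edaf65dce6ddaa439334a10a449073f92c435054d92e43d3d4d1294c5134212d6e5ac655cc6d1a86c19864dab73dba6b5cd6c52f441064a9094c1ae5d165521895c95e5ad4b5056163d7559d8a5b1dd75dd276dd5778fb3d4f03e4f33f1665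253e57d4263173589885bd4c511905d985529594fd8b60d6051d6d5714363570645865a5d3771d677dda750f13e8f43f4f83c96351568569405b98e611645c55d519875a95b4859f719a5725bf6811e40922455004913c4dd1f49d1b40d3a48d16689c76f19e6999b649c068599729c268dd1721bd715a7671c1495184053848114471043fd174ed2646539475c36919a6f99d7111a6015854d7e55981764f75517f55d825f5552249c10c1e20cc2324421188a380c8188841cc0a0e0981c81a0b83f2787e08035370bc178763b0c435ca52c8591343e0180b274441301f0d00536c882645d1d41b30cd62085837c8c280611fc22328da2185c3a0ed318a639c8b27c4508485314cb2503a120160a0011d08f0c0112e0cc1bc4e2b8be34c78154b438c3911c090002f1b84012c0d0103621c950f017374e126cbd3485f2401d0c85403812360b3168682e4eb388a42bc81300ef398a82d80c0ec9a1dc1c0c4412848008c37378bf1807b3b8c7364a72d45b0902a1a8ce2a85019008124290080724c6905425334702384f18c1025c6d0642c3507a2485619c143a8bb340a32ac52390e92c4a22583d128180ac031e4910cc132e8cf1c4512c0c13547d15cb73947c1ac8d09c0f194a92b4260b46c344ac14c66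

end Cfsg.Agent.Lib.StdO8
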