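import Cfsg.Agent.Lib.StdO8.Local
import Cfsg.Agent.Lib.StdO8.CoverData
import Cfsg.Agent.Lib.O8Mult.Main
import Cfsg.Agent.Lib.OutPOmegaPlus52.D4

/-!
# Double covers of `Ω⁺₈(2)` and their automorphisms

The three double covers are the images of the universal cover, all isomorphic to the rotation group of
the root system, and every automorphism of that group is conjugation by an element of the Weyl group.
-/

set_option autoImplicit false
set_option Elab.async false
set_option maxRecDepth 20000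

namespace Cfsg.Agent.Lib.StdO8

open Cfsg Cfsg.Agent.Lib.Computation
open Cfsg.Agent.Lib.O8Mult (K cov_ok cov_gens card_K)
open Cfsg.Agent.Lib.Schur.PermMult (memC el el_has hasOne pone)
open scoped commutatorElement

/-- The simple group. -/
abbrev Q8 : Type := Cfsg.POmega (ZMod 2) O8Mult.qf

theorem simple_Q8 : IsSimpleGroup Q8 := OrthOmega.isSimpleGroup_pOmega_plus 4 (by norm_num)

theorem card_Q8 : Nat.card Q8 = 174182400 := O8Mult.card_POm

instance finite_Q8 : Finite Q8 := Nat.finite_of_card_ne_zero (by rw [card_Q8]; norm_num)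

theorem center_Q8 : Subgroup.center Q8 = ⊥ := by
  have := simple_Q8
  rcases IsSimpleGroup.eq_bot_or_eq_top_of_normal (Subgroup.center Q8) inferInstance with h | h
  · exact h
  · exfalso
    have hc : ∀ a b : Q8, a * b = b * a := fun a b =>
      (Subgroup.mem_center_iff.1 (h ▸ Subgroup.mem_top b) a)
    let _ : CommGroup Q8 := { (inferInstance : Group Q8) with mul_comm := hc }
    have := IsSimpleGroup.prime_card (α := Q8)
    rw [card_Q8] at this
    norm_num at this

theorem comm_Q8 : commutator Q8 = ⊤ := by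
  have := simple_Q8
  rcases IsSimpleGroup.eq_bot_or_eq_top_of_normal (commutator Q8) inferInstance with h | h
  · exfalso
    have : Subgroup.center Q8 = ⊤ := by
      refine top_le_iff.1 fun a _ => Subgroup.mem_center_iff.2 fun b => ?_
      have hm : ⁅b, a⁆ ∈ commutator Q8 :=
        Subgroup.commutator_mem_commutator (Subgroup.mem_top b) (Subgroup.mem_top a)
      rw [h, Subgroup.mem_bot, commutatorElement_eq_one_iff_mul_comm] at hm
      exact hm
    have e := center_Q8
    rw [this] at e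
    have h1 : Nat.card Q8 = 1 := by rw [← Subgroup.card_top (G := Q8), e, Subgroup.card_bot]
    rw [card_Q8] at h1
    norm_num at h1
  · exact h

theorem card_out_Q8 : Nat.card (Cfsg.Out Q8) = 6 := by
  obtain ⟨C, H⟩ := OutPOmegaPlus52.exists_commOK
  obtain ⟨e⟩ := OutPOmegaPlus52.out_plus_four_eight (F := ZMod 2)
  obtain ⟨e'⟩ := OutPOmegaPlus52.out_D4_even (F := ZMod 2) C H (f := 1) le_rfl (ZMod.card 2)
  rw [Nat.card_congr (e.trans e').toEquiv, Nat.card_prod, Nat.card_perm, Nat.card_fin,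
    Nat.card_congr Multiplicative.toAdd, Nat.card_zmod]
  rfl

/-! ### The two blocks -/

/-- The code on one block. -/
def blkOk (lo rel c g : ℕ) : Bool :=
  okPerm 736 10 c && okPerm 240 8 g && (List.range 240).all fun i =>
    Nat.ble lo (getW 10 c (lo + i)) && Nat.blt (getW 10 c (lo + i)) (lo + 240) &&
      Nat.beq (getW 8 rel (getW 10 c (lo + i) - lo)) (getW 8 g (getW 8 rel i))

theorem blkA : (List.range 8).all (fun k => blkOk 0 relA (cov_gens.getD k 0) (gensA.getD k 0) &&
    inW1 (gensA.getD k 0)) = true := by decide +kernel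

theorem blkB : (List.range 8).all (fun k => blkOk 240 relB (cov_gens.getD k 0) (gensB.getD k 0) &&
    inW1 (gensB.getD k 0)) = true := by decide +kernel

theorem rel_ok' : okPerm 240 8 relA && okPerm 240 8 relB = true := by decide +kernel

theorem len_gens : cov_gens.length = 8 := by decide +kernel

theorem gen_idx {c : ℕ} (hc : c ∈ cov_gens) : ∃ k < 8, cov_gens.getD k 0 = c := by
  obtain ⟨k, hk, rfl⟩ := List.getElem_of_mem hc
  exact ⟨k, len_gens ▸ hk, List.getD_eq_getElem _ _ hk⟩

/-- A block action of the cover. -/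
theorem exists_block (lo rel : ℕ) (hlo : lo + 240 ≤ 736) (hrel : okPerm 240 8 rel = true) (gens : List ℕ)
    (h : (List.range 8).all (fun k => blkOk lo rel (cov_gens.getD k 0) (gens.getD k 0) &&
      inW1 (gens.getD k 0)) = true) :
    ∃ π : K →* Perm240, (∀ g, π g ∈ W1) ∧ ∀ (g : K) (i j : Fin 240) (hi : lo + i.val < 736),
      ((g : Equiv.Perm (Fin 736)) ⟨lo + i.val, hi⟩).val = lo + j.val →
        π g (decodeP 240 8 rel i) = decodeP 240 8 rel j := by
  classical
  let p : Fin 736 → Prop := fun x => lo ≤ x.val ∧ x.val < lo + 240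
  have hK : K = Subgroup.closure (decodeP 736 10 '' {s | s ∈ cov_gens}) :=
    ((permRep 736 10 (by decide)).closure_eq_grp O8Mult.cov_check).symm
  have fwd : ∀ g ∈ K, ∀ x, p x → p (g x) := by
    intro g hg
    rw [hK] at hg
    induction hg using Subgroup.closure_induction with
    | mem x hx =>
      obtain ⟨c, hc, rfl⟩ := hx
      obtain ⟨k, hk, rfl⟩ := gen_idx hc
      have h1 := List.all_eq_true.1 h k (List.mem_range.2 hk)
      simp only [blkOk, Bool.and_eq_true, List.all_eq_true, List.mem_range, Nat.ble_eq, Nat.blt_eq] at h1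
      intro y ⟨hy1, hy2⟩
      have e : lo + (y.val - lo) = y.val := by omega
      have h2 := h1.1.2 (y.val - lo) (by omega)
      rw [e, ← decodeP_apply h1.1.1.1 y] at h2
      exact ⟨h2.1.1, h2.1.2⟩
    | one => intro y hy; exact hy
    | mul a b _ _ ha hb => intro y hy; exact ha _ (hb _ hy)
    | inv a _ ha =>
      intro y hy
      have hsurj : Function.Surjective (fun z : {z // p z} => (⟨a z.1, ha _ z.2⟩ : {z // p z})) :=
        Finite.injective_iff_surjective.1 fun u v e => Subtype.ext (a.injective (congrArg Subtype.val e))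
      obtain ⟨u, hu⟩ := hsurj ⟨y, hy⟩
      rw [show a⁻¹ y = u.1 by rw [Equiv.Perm.inv_eq_iff_eq]; exact (congrArg Subtype.val hu).symm]
      exact u.2
  have iffp : ∀ g : K, ∀ x, p x ↔ p ((g : Equiv.Perm (Fin 736)) x) := fun g x =>
    ⟨fwd _ g.2 x, fun hx => by simpa using fwd _ (K.inv_mem g.2) _ hx⟩
  let e0 : {x // p x} ≃ Fin 240 :=
    { toFun := fun x => ⟨x.1.val - lo, by have := x.2.1; have := x.2.2; omega⟩
      invFun := fun i => ⟨⟨lo + i.val, by omega⟩, Nat.le_add_right _ _, by simp⟩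
      left_inv := fun x => Subtype.ext (Fin.ext (by
        show lo + (x.1.val - lo) = x.1.val
        have := x.2.1; omega))
      right_inv := fun i => Fin.ext (by show lo + i.val - lo = i.val; omega) }
  let e : {x // p x} ≃ Fin 240 := e0.trans (decodeP 240 8 rel)
  let π : K →* Perm240 :=
    { toFun := fun g => e.permCongr ((g : Equiv.Perm (Fin 736)).subtypePerm (fun x => (iffp g x).symm))
      map_one' := by ext i; simp
      map_mul' := fun a b => by ext i; simp [Equiv.permCongr_apply] }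
  have spec : ∀ (g : K) (i j : Fin 240) (hi : lo + i.val < 736),
      ((g : Equiv.Perm (Fin 736)) ⟨lo + i.val, hi⟩).val = lo + j.val →
        π g (decodeP 240 8 rel i) = decodeP 240 8 rel j := by
    intro g i j hi hg
    show e.permCongr _ _ = _
    rw [Equiv.permCongr_apply]
    simp only [e, Equiv.symm_trans_apply, Equiv.symm_apply_apply, Equiv.trans_apply]
    congr 1
    refine Fin.ext ?_
    show ((g : Equiv.Perm (Fin 736)) ⟨lo + i.val, _⟩).val - lo = j.val
    rw [hg]; omega
  refine ⟨π, fun g => ?_, spec⟩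
  have hgen : ∀ c (hc : decodeP 736 10 c ∈ K), c ∈ cov_gens → π ⟨_, hc⟩ ∈ W1 := by
    intro c hc hcm
    obtain ⟨k, hk, rfl⟩ := gen_idx hcm
    have h1 := List.all_eq_true.1 h k (List.mem_range.2 hk)
    simp only [blkOk, Bool.and_eq_true, List.all_eq_true, List.mem_range, Nat.ble_eq, Nat.blt_eq,
      Nat.beq_eq] at h1
    obtain ⟨⟨⟨hok, hgok⟩, hall⟩, hw⟩ := h1
    have : π ⟨_, hc⟩ = decodeP 240 8 (gens.getD k 0) := by
      refine Equiv.ext fun y => ?_
      obtain ⟨i, rfl⟩ := (decodeP 240 8 rel).surjective y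
      obtain ⟨⟨h2, h3⟩, h4⟩ := hall i.val i.isLt
      rw [spec ⟨_, hc⟩ i ⟨getW 10 (cov_gens.getD k 0) (lo + i.val) - lo, by omega⟩ (by omega) (by
        rw [decodeP_apply hok]
        show getW 10 _ (lo + i.val) = lo + (getW 10 _ (lo + i.val) - lo)
        omega)]
      refine Fin.ext ?_
      rw [decodeP_apply hrel, decodeP_apply hgok, decodeP_apply hrel]
      exact h4
    rw [this]
    exact mem_rot hw
  have hle : K ≤ (W1.comap π).map K.subtype := by
    conv_lhs => rw [hK]
    rw [Subgroup.closure_le]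
    rintro _ ⟨c, hc, rfl⟩
    have hcK : decodeP 736 10 c ∈ K := hK.symm ▸ Subgroup.subset_closure ⟨c, hc, rfl⟩
    exact ⟨⟨_, hcK⟩, hgen c hcK hc, rfl⟩
  obtain ⟨g', hg', e'⟩ := hle g.2
  rw [show g = g' from Subtype.ext e'.symm]
  exact hg'

/-- The central elements of the cover and the two projections. -/
structure Cover where
  σ : K →* Q8
  a : K
  b : K
  surj : Function.Surjective σ
  ker : ∀ x, x ∈ σ.ker ↔ x = 1 ∨ x = a ∨ x = b ∨ x = a * b
  cen : σ.ker ≤ Subgroup.center K
  perf : commutator K = ⊤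
  a1 : a ≠ 1
  b1 : b ≠ 1
  ab : a ≠ b
  aa : a * a = 1
  bb : b * b = 1
  πA : K →* Perm240
  πB : K →* Perm240
  memA : ∀ g, πA g ∈ W1
  memB : ∀ g, πB g ∈ W1
  kA : πA a = 1 ∧ πA b = nn
  kB : πB a = nn ∧ πB b = 1
  j : K
  j' : K
  jj : j * j = b
  jj' : j' * j' = a * b
  conj : πA j' = fl 1 * πA j * (fl 1)⁻¹

/-- The code is trivial on a block. -/
def blkTriv (lo c : ℕ) : Bool := (List.range 240).all fun i => Nat.beq (getW 10 c (lo + i)) (lo + i)

/-- The code is negation on a block. -/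
def blkNeg (lo rel c : ℕ) : Bool := (List.range 240).all fun i =>
  Nat.ble lo (getW 10 c (lo + i)) && Nat.blt (getW 10 c (lo + i)) (lo + 240) &&
    Nat.beq (getW 8 rel (getW 10 c (lo + i) - lo)) (getW 8 (flC 255) (getW 8 rel i))

theorem z_blocks : (blkTriv 0 O8Mult.zB && blkNeg 0 relA O8Mult.zA && blkNeg 240 relB O8Mult.zB &&
    blkTriv 240 O8Mult.zA) = true := by decide +kernel

theorem j_ok : (memC (n := 736) (w := 10) (by decide) O8Mult.cov_chain jC &&
    memC (n := 736) (w := 10) (by decide) O8Mult.cov_chain jC2 &&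
    Nat.beq (mulP 736 10 jC jC) O8Mult.zA &&
    Nat.beq (mulP 736 10 jC2 jC2) (mulP 736 10 O8Mult.zB O8Mult.zA) &&
    (List.range 240).all (fun i => Nat.blt (getW 10 jC i) 240 && Nat.blt (getW 10 jC2 i) 240) &&
    (List.range 240).all (fun i =>
      let y := getW 8 relA i
      Nat.beq (getW 8 relA (getW 10 jC2 i))
        (let y' := getW 8 (flC 1) y
         (List.range 240).foldl (fun acc k => if Nat.beq (getW 8 relA k) y' then getW 8 (flC 1) (getW 8 relA (getW 10 jC k)) else acc) 240))) = true := by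
  decide +kernel

theorem exists_cover : Nonempty Cover := by
  obtain ⟨ψ, hψ, hψb⟩ := O8Mult.exists_proj
  let σ : K →* Q8 := (QuotientGroup.mk' _).comp ψ
  have hσ : Function.Surjective σ := O8Mult.mk_bijective.2.comp hψ
  have h := O8Mult.z_ok
  simp only [Bool.and_eq_true, List.all_eq_true] at h
  obtain ⟨⟨⟨⟨⟨⟨⟨⟨⟨⟨⟨⟨⟨⟨⟨⟨hzA, hzB⟩, hxA⟩, hyA⟩, hxB⟩, hyB⟩, hA1⟩, hB1⟩, hAB1⟩, hAb⟩, hBb⟩, hAA⟩, hBB⟩,
    hABc⟩, hcA⟩, hcB⟩, hcen⟩ := h
  have iA := el_has cov_ok hzA
  have iB := el_has cov_ok hzB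
  set zb := el cov_ok hzA
  set za := el cov_ok hzB
  have hAσ : σ zb = 1 := by show QuotientGroup.mk' _ (ψ zb) = 1; rw [hψb zb _ _ hAb iA.2, map_one]
  have hBσ : σ za = 1 := by show QuotientGroup.mk' _ (ψ za) = 1; rw [hψb za _ _ hBb iB.2, map_one]
  have hcard : Nat.card σ.ker = 4 := by
    have h1 := σ.ker.card_mul_index
    rw [Subgroup.index_ker, MonoidHom.range_eq_top.2 hσ, Subgroup.card_top, card_Q8, card_K] at h1
    omega
  have ha1 : za ≠ 1 := iB.ne_one hB1
  have hb1 : zb ≠ 1 := iA.ne_one hA1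
  have hba1 : zb * za ≠ 1 := (iA.mul iB).ne_one hAB1
  have haa : za * za = 1 := (iB.mul iB).eq hasOne hBB
  have hbb : zb * zb = 1 := (iA.mul iA).eq hasOne hAA
  have hab : zb * za = za * zb := (iA.mul iB).eq (iB.mul iA) hABc
  have hne : za ≠ zb := fun e => hba1 (by rw [← e]; exact haa)
  have hab1 : za * zb ≠ 1 := hab ▸ hba1
  have hker : (σ.ker : Set K) = {1, za, zb, za * zb} := by
    refine (Set.eq_of_subset_of_ncard_le ?_ ?_ (Set.toFinite _)).symm
    · rintro x (rfl | rfl | rfl | rfl)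
      · exact σ.ker.one_mem
      · exact hBσ
      · exact hAσ
      · show σ (za * zb) = 1
        rw [map_mul, hAσ, hBσ, one_mul]
    · rw [show (σ.ker : Set K).ncard = Nat.card σ.ker from (Nat.card_coe_set_eq _).symm, hcard,
        Set.ncard_insert_of_notMem (by simp [ha1.symm, hb1.symm, hab1.symm]),
        Set.ncard_insert_of_notMem (by simp [hne, hb1]),
        Set.ncard_insert_of_notMem (by simp [ha1]), Set.ncard_singleton]
  have hca : za ∈ Subgroup.center K := O8Mult.mem_center_of iB fun c hc => ⟨(hcen c hc).1.1, (hcen c hc).2⟩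
  have hcb : zb ∈ Subgroup.center K := O8Mult.mem_center_of iA fun c hc => ⟨(hcen c hc).1.1, (hcen c hc).1.2⟩
  have hdb : zb ∈ commutator K := by
    have he : ⁅el cov_ok hxA, el cov_ok hyA⁆ = zb := by
      rw [commutatorElement_def, mul_inv_eq_iff_eq_mul, mul_inv_eq_iff_eq_mul]
      exact ((el_has cov_ok hxA).mul (el_has cov_ok hyA)).eq ((iA.mul (el_has cov_ok hyA)).mul (el_has cov_ok hxA)) hcA
    rw [← he]
    exact Subgroup.commutator_mem_commutator (Subgroup.mem_top _) (Subgroup.mem_top _)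
  have hda : za ∈ commutator K := by
    have he : ⁅el cov_ok hxB, el cov_ok hyB⁆ = za := by
      rw [commutatorElement_def, mul_inv_eq_iff_eq_mul, mul_inv_eq_iff_eq_mul]
      exact ((el_has cov_ok hxB).mul (el_has cov_ok hyB)).eq ((iB.mul (el_has cov_ok hyB)).mul (el_has cov_ok hxB)) hcB
    rw [← he]
    exact Subgroup.commutator_mem_commutator (Subgroup.mem_top _) (Subgroup.mem_top _)
  have hmem : ∀ x, x ∈ σ.ker ↔ x = 1 ∨ x = za ∨ x = zb ∨ x = za * zb := fun x => by
    rw [← SetLike.mem_coe, hker]; simp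
  have hcen' : σ.ker ≤ Subgroup.center K := fun x hx => by
    rcases (hmem x).1 hx with rfl | rfl | rfl | rfl
    exacts [one_mem _, hca, hcb, mul_mem hca hcb]
  have hperf : commutator K = ⊤ := by
    have hmap : (commutator K).map σ = ⊤ := by
      rw [commutator_def, Subgroup.map_commutator, Subgroup.map_top_of_surjective _ hσ,
        ← commutator_def, comm_Q8]
    have h' : commutator K ⊔ σ.ker = ⊤ := by rw [← Subgroup.comap_map_eq, hmap, Subgroup.comap_top]
    rwa [sup_eq_left.2 (fun x hx => by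
      rcases (hmem x).1 hx with rfl | rfl | rfl | rfl
      exacts [one_mem _, hda, hdb, mul_mem hda hdb])] at h'
  have hr := rel_ok'
  simp only [Bool.and_eq_true] at hr
  obtain ⟨πA, mA, sA⟩ := exists_block 0 relA (by norm_num) hr.1 gensA blkA
  obtain ⟨πB, mB, sB⟩ := exists_block 240 relB (by norm_num) hr.2 gensB blkB
  have hz := z_blocks
  simp only [Bool.and_eq_true, blkTriv, blkNeg, List.all_eq_true, List.mem_range, Nat.beq_eq,
    Nat.ble_eq, Nat.blt_eq] at hz
  obtain ⟨⟨⟨t1, n1⟩, n2⟩, t2⟩ := hz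
  have triv : ∀ (π : K →* Perm240) (lo rel : ℕ) (hlo : lo + 240 ≤ 736),
      (∀ (g : K) (i j : Fin 240) (hi : lo + i.val < 736),
        ((g : Equiv.Perm (Fin 736)) ⟨lo + i.val, hi⟩).val = lo + j.val →
          π g (decodeP 240 8 rel i) = decodeP 240 8 rel j) → ∀ {g : K} {c : ℕ},
        Schur.PermMult.Has (by decide) O8Mult.cov_chain g c →
        (∀ i < 240, getW 10 c (lo + i) = lo + i) → π g = 1 := by
    intro π lo rel hlo sp g c hg hc
    refine Equiv.ext fun y => ?_
    obtain ⟨i, rfl⟩ := (decodeP 240 8 rel).surjective y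
    rw [Equiv.Perm.one_apply]
    exact sp g i i (by omega) (by rw [hg.2, decodeP_apply hg.1]; exact hc i.val i.isLt)
  have negv : ∀ (π : K →* Perm240) (lo rel : ℕ) (hlo : lo + 240 ≤ 736), okPerm 240 8 rel = true →
      (∀ (g : K) (i j : Fin 240) (hi : lo + i.val < 736),
        ((g : Equiv.Perm (Fin 736)) ⟨lo + i.val, hi⟩).val = lo + j.val →
          π g (decodeP 240 8 rel i) = decodeP 240 8 rel j) → ∀ {g : K} {c : ℕ},
        Schur.PermMult.Has (by decide) O8Mult.cov_chain g c →
        (∀ i < 240, (lo ≤ getW 10 c (lo + i) ∧ getW 10 c (lo + i) < lo + 240) ∧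
          getW 8 rel (getW 10 c (lo + i) - lo) = getW 8 (flC 255) (getW 8 rel i)) → π g = nn := by
    intro π lo rel hlo hrel sp g c hg hc
    refine Equiv.ext fun y => ?_
    obtain ⟨i, rfl⟩ := (decodeP 240 8 rel).surjective y
    obtain ⟨⟨h1, h2⟩, h3⟩ := hc i.val i.isLt
    rw [sp g i ⟨getW 10 c (lo + i.val) - lo, by omega⟩ (by omega)
      (by
        rw [hg.2, decodeP_apply hg.1]
        show getW 10 c (lo + i.val) = lo + (getW 10 c (lo + i.val) - lo)
        omega)]
    refine Fin.ext ?_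
    rw [nn, fl, decodeP_apply hrel, decodeP_apply (flC_ok' (by norm_num)), decodeP_apply hrel]
    exact h3
  have hj := j_ok
  simp only [Bool.and_eq_true, Nat.beq_eq, List.all_eq_true, List.mem_range, Nat.blt_eq] at hj
  obtain ⟨⟨⟨⟨⟨hjC, hjC2⟩, hj2⟩, hj22⟩, hjr⟩, hjc⟩ := hj
  have ij := el_has cov_ok hjC
  have ij' := el_has cov_ok hjC2
  refine ⟨⟨σ, za, zb, hσ, hmem, hcen', hperf, ha1, hb1, hne, haa, hbb, πA, πB, mA, mB, ⟨?_, ?_⟩, ⟨?_, ?_⟩,
    el cov_ok hjC, el cov_ok hjC2, ?_, ?_, ?_⟩⟩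
  · exact triv πA 0 relA (by norm_num) sA iB t1
  · exact negv πA 0 relA (by norm_num) hr.1 sA iA n1
  · exact negv πB 240 relB (by norm_num) hr.2 sB iB n2
  · exact triv πB 240 relB (by norm_num) sB iA t2
  · exact (ij.mul ij).eq iA (by rw [hj2]; simp)
  · exact (ij'.mul ij').eq (iB.mul iA) (by rw [hj22]; simp)
  · refine Equiv.ext fun y => ?_
    obtain ⟨i, rfl⟩ := (decodeP 240 8 relA).surjective y
    rw [sA _ i ⟨getW 10 jC2 i.val, (hjr i.val i.isLt).2⟩ (by omega) (by
      rw [ij'.2, decodeP_apply ij'.1]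
      show getW 10 jC2 (0 + i.val) = 0 + getW 10 jC2 i.val
      simp only [Nat.zero_add])]
    have hf : okPerm 240 8 (flC 1) = true := flC_ok' (by norm_num)
    have hfi : (fl 1)⁻¹ = fl 1 := inv_eq_of_mul_eq_one_right (fl_sq (by norm_num))
    obtain ⟨k, hk⟩ := (decodeP 240 8 relA).surjective (fl 1 (decodeP 240 8 relA i))
    rw [Equiv.Perm.mul_apply, Equiv.Perm.mul_apply, hfi, ← hk,
      sA _ k ⟨getW 10 jC k.val, (hjr k.val k.isLt).1⟩ (by omega) (by
        rw [ij.2, decodeP_apply ij.1]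
        show getW 10 jC (0 + k.val) = 0 + getW 10 jC k.val
        simp only [Nat.zero_add])]
    refine Fin.ext ?_
    rw [decodeP_apply hr.1, fl, decodeP_apply hf, decodeP_apply hr.1]
    have hkv : getW 8 relA k.val = getW 8 (flC 1) (getW 8 relA i.val) := by
      have := congrArg Fin.val hk
      rwa [decodeP_apply hr.1, fl, decodeP_apply hf, decodeP_apply hr.1] at this
    have e := hjc i.val i.isLt
    rw [e]
    have key : ∀ (l : List ℕ) (a : ℕ), (∀ x ∈ l, x < 240) → k.val ∈ l →
        l.foldl (fun acc x => if getW 8 relA x = getW 8 (flC 1) (getW 8 relA i.val)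
          then getW 8 (flC 1) (getW 8 relA (getW 10 jC x)) else acc) a =
          getW 8 (flC 1) (getW 8 relA (getW 10 jC k.val)) := by
      intro l
      induction l using List.reverseRecOn with
      | nil => simp
      | append_singleton l x ih =>
        intro a hlt hmem
        rw [List.foldl_append, List.foldl_cons, List.foldl_nil]
        by_cases hx : getW 8 relA x = getW 8 (flC 1) (getW 8 relA i.val)
        · have hxk : x = k.val := by
            have hx240 := hlt x (by simp)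
            have : decodeP 240 8 relA ⟨x, hx240⟩ = decodeP 240 8 relA k := Fin.ext (by
              rw [decodeP_apply hr.1, decodeP_apply hr.1, hx, hkv])
            exact congrArg Fin.val ((decodeP 240 8 relA).injective this)
          rw [if_pos hx, hxk]
        · rw [if_neg hx]
          refine ih a (fun z hz => hlt z (by simp [hz])) ?_
          rcases List.mem_append.1 hmem with h | h
          · exact h
          · exact absurd (by rw [List.mem_singleton.1 h] at hkv; exact hkv) hx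
    exact key _ _ (fun x hx => List.mem_range.1 hx) (List.mem_range.2 k.isLt)

variable (C : Cover)

theorem Cover.comm_ab : C.a * C.b = C.b * C.a :=
  Subgroup.mem_center_iff.1 (C.cen ((C.ker _).2 (Or.inr (Or.inr (Or.inl rfl))))) C.a

/-- The kernel of a projection. -/
theorem Cover.ker_proj {π : K →* Perm240} (hm : ∀ g, π g ∈ W1) {u v : K} (hu : u ∈ C.σ.ker)
    (huv : ∀ x ∈ C.σ.ker, x = 1 ∨ x = u ∨ π x ≠ 1) (h1 : π u = 1) (hv : π v ≠ 1) :
    (∀ x, π x = 1 ↔ x = 1 ∨ x = u) ∧ ∀ w ∈ W1, ∃ g, π g = w := by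
  have := simple_Q8
  have hn : (π.ker.map C.σ).Normal := Subgroup.Normal.map inferInstance _ C.surj
  have hle : π.ker ≤ C.σ.ker := by
    rcases hn.eq_bot_or_eq_top with h | h
    · exact (Subgroup.map_eq_bot_iff _).1 h
    · exfalso
      have h' : π.ker ⊔ C.σ.ker = ⊤ := by rw [← Subgroup.comap_map_eq, h, Subgroup.comap_top]
      have hcomm : commutator K ≤ π.ker := Multiplier.commutator_le_of_sup_central _ _ C.cen h' |>.trans
        (by rw [Subgroup.commutator_le]; intro a ha b hb; rw [commutatorElement_def]; exact mul_mem (mul_mem (mul_mem ha hb) (inv_mem ha)) (inv_mem hb))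
      rw [C.perf] at hcomm
      exact hv (hcomm (Subgroup.mem_top v))
  have hiff : ∀ x, π x = 1 ↔ x = 1 ∨ x = u := fun x => ⟨fun hx => by
    rcases huv x (hle hx) with e | e | e
    · exact Or.inl e
    · exact Or.inr e
    · exact absurd hx e, by rintro (rfl | rfl); exacts [map_one π, h1]⟩
  refine ⟨hiff, ?_⟩
  have hcard : Nat.card π.ker ≤ 2 := by
    rw [show Nat.card π.ker = (π.ker : Set K).ncard from Nat.card_coe_set_eq _]
    refine (Set.ncard_le_ncard (t := {1, u}) (fun x hx => by simpa using (hiff x).1 hx) (Set.toFinite _)).trans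
      ((Set.ncard_insert_le _ _).trans (by rw [Set.ncard_singleton]))
  have hr : π.range = W1 := by
    refine Subgroup.eq_of_le_of_card_ge (by rintro _ ⟨g, rfl⟩; exact hm g) ?_
    have hi := π.ker.index_mul_card
    rw [Subgroup.index_ker, card_K] at hi
    rw [card_W1]
    nlinarith [Nat.card_pos (α := π.range)]
  intro w hw
  exact (hr.symm ▸ hw : w ∈ π.range)

/-- The projection onto the first block. -/
theorem Cover.factsA : (∀ x, C.πA x = 1 ↔ x = 1 ∨ x = C.a) ∧ ∀ w ∈ W1, ∃ g, C.πA g = w := by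
  refine C.ker_proj C.memA ((C.ker _).2 (Or.inr (Or.inl rfl))) (fun x hx => ?_) C.kA.1 (v := C.b)
    (C.kA.2 ▸ nn_ne_one)
  rcases (C.ker x).1 hx with rfl | rfl | rfl | rfl
  · exact Or.inl rfl
  · exact Or.inr (Or.inl rfl)
  · exact Or.inr (Or.inr (C.kA.2 ▸ nn_ne_one))
  · exact Or.inr (Or.inr (by rw [map_mul, C.kA.1, one_mul, C.kA.2]; exact nn_ne_one))

/-- The projection onto the second block. -/
theorem Cover.factsB : (∀ x, C.πB x = 1 ↔ x = 1 ∨ x = C.b) ∧ ∀ w ∈ W1, ∃ g, C.πB g = w := by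
  refine C.ker_proj C.memB ((C.ker _).2 (Or.inr (Or.inr (Or.inl rfl)))) (fun x hx => ?_) C.kB.2 (v := C.a)
    (C.kB.1 ▸ nn_ne_one)
  rcases (C.ker x).1 hx with rfl | rfl | rfl | rfl
  · exact Or.inl rfl
  · exact Or.inr (Or.inr (C.kB.1 ▸ nn_ne_one))
  · exact Or.inr (Or.inl rfl)
  · exact Or.inr (Or.inr (by rw [map_mul, C.kB.2, mul_one, C.kB.1]; exact nn_ne_one))

/-- Two projections with central kernels onto a group differ by an automorphism of the cover. -/
theorem Cover.exists_aut {E : Type*} [Group E] (f g : K →* E) (hf : Function.Surjective f)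
    (hg : Function.Surjective g) (hgz : g.ker ≤ C.σ.ker) (hfz : f.ker ≤ C.σ.ker) :
    ∃ α : MulAut K, ∀ x, g (α x) = f x := by
  obtain ⟨η, hη⟩ := Multiplier.exists_lift_of_trivial C.perf O8Mult.multiplier_K f g hg (hgz.trans C.cen)
  have hsurj : Function.Surjective η := by
    have hr : η.range ⊔ g.ker = ⊤ := by
      refine top_le_iff.1 fun d _ => ?_
      obtain ⟨x, hx⟩ := hf (g d)
      have h1 : (η x)⁻¹ * d ∈ g.ker := by
        rw [MonoidHom.mem_ker, map_mul, map_inv,
          show g (η x) = g d from (DFunLike.congr_fun hη x).trans hx, inv_mul_cancel]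
      have := (η.range ⊔ g.ker).mul_mem
        (Subgroup.mem_sup_left (show η x ∈ η.range from ⟨_, rfl⟩)) (Subgroup.mem_sup_right h1)
      rwa [mul_inv_cancel_left] at this
    have h2 := Multiplier.commutator_le_of_sup_central _ _ (hgz.trans C.cen) hr
    rw [C.perf] at h2
    refine MonoidHom.range_eq_top.1 (top_le_iff.1 (h2.trans ?_))
    rw [Subgroup.commutator_le]
    intro a ha b hb
    rw [commutatorElement_def]
    exact mul_mem (mul_mem (mul_mem ha hb) (inv_mem ha)) (inv_mem hb)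
  have hbij : Function.Bijective η := ⟨Finite.injective_iff_surjective.2 hsurj, hsurj⟩
  exact ⟨MulEquiv.ofBijective η hbij, fun x => DFunLike.congr_fun hη x⟩

/-- The projection onto the rotation group. -/
noncomputable def Cover.pA : K →* W1 := C.πA.codRestrict W1 C.memA

/-- The projection onto the rotation group. -/
noncomputable def Cover.pB : K →* W1 := C.πB.codRestrict W1 C.memB

theorem Cover.pA_surj : Function.Surjective C.pA := fun w => by
  obtain ⟨g, hg⟩ := C.factsA.2 w.1 w.2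
  exact ⟨g, Subtype.ext hg⟩

theorem Cover.pB_surj : Function.Surjective C.pB := fun w => by
  obtain ⟨g, hg⟩ := C.factsB.2 w.1 w.2
  exact ⟨g, Subtype.ext hg⟩

theorem Cover.pA_one (x : K) : C.pA x = 1 ↔ x = 1 ∨ x = C.a := by
  rw [← C.factsA.1]; exact Subtype.ext_iff

theorem Cover.pB_one (x : K) : C.pB x = 1 ↔ x = 1 ∨ x = C.b := by
  rw [← C.factsB.1]; exact Subtype.ext_iff

theorem Cover.pA_ker : C.pA.ker ≤ C.σ.ker := fun x hx => by
  rcases (C.pA_one x).1 hx with rfl | rfl
  exacts [one_mem _, (C.ker _).2 (Or.inr (Or.inl rfl))]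

theorem Cover.pB_ker : C.pB.ker ≤ C.σ.ker := fun x hx => by
  rcases (C.pB_one x).1 hx with rfl | rfl
  exacts [one_mem _, (C.ker _).2 (Or.inr (Or.inr (Or.inl rfl)))]

theorem Cover.center_eq : Subgroup.center K = C.σ.ker := by
  refine le_antisymm (fun x hx => ?_) C.cen
  have : C.σ x ∈ Subgroup.center Q8 := Subgroup.mem_center_iff.2 fun q => by
    obtain ⟨y, rfl⟩ := C.surj q
    rw [← map_mul, ← map_mul, Subgroup.mem_center_iff.1 hx y]
  rwa [center_Q8, Subgroup.mem_bot] at this

theorem Cover.map_ker (α : MulAut K) {x : K} (hx : x ∈ C.σ.ker) : α x ∈ C.σ.ker := by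
  rw [← C.center_eq] at hx ⊢
  exact Subgroup.mem_center_iff.2 fun y => by
    obtain ⟨y, rfl⟩ := α.surjective y
    rw [← map_mul, ← map_mul, Subgroup.mem_center_iff.1 hx y]

/-- The reflection swaps two of the central elements. -/
theorem Cover.exists_swap : ∃ ρ : MulAut K, ρ C.a = C.a ∧ ρ C.b = C.a * C.b ∧
    ∀ x, C.πA (ρ x) = fl 1 * C.πA x * (fl 1)⁻¹ := by
  let c : W1 →* W1 :=
    { toFun := fun w => ⟨fl 1 * w.1 * (fl 1)⁻¹, conj_mem_W1 (fl_mem (by norm_num)) w.2⟩
      map_one' := Subtype.ext (by simp)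
      map_mul' := fun v w => Subtype.ext (by show fl 1 * (v.1 * w.1) * _ = _ ; simp only [Subgroup.coe_mul]; group) }
  have hf : Function.Surjective (c.comp C.pA) := by
    intro w
    obtain ⟨g, hg⟩ := C.pA_surj ⟨fl 1 * w.1 * (fl 1)⁻¹, conj_mem_W1 (fl_mem (by norm_num)) w.2⟩
    refine ⟨g, Subtype.ext ?_⟩
    show fl 1 * (C.pA g).1 * (fl 1)⁻¹ = w.1
    have hfi : (fl 1)⁻¹ = fl 1 := inv_eq_of_mul_eq_one_right (fl_sq (by norm_num))
    rw [hg]
    show fl 1 * (fl 1 * w.1 * (fl 1)⁻¹) * (fl 1)⁻¹ = w.1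
    rw [hfi, show fl 1 * (fl 1 * w.1 * fl 1) * fl 1 = fl 1 * fl 1 * w.1 * (fl 1 * fl 1) by group,
      fl_sq (by norm_num), one_mul, mul_one]
  obtain ⟨ρ, hρ⟩ := C.exists_aut (c.comp C.pA) C.pA hf C.pA_surj C.pA_ker (fun x hx => by
    refine C.pA_ker (Subtype.ext ?_)
    have h := congrArg Subtype.val (MonoidHom.mem_ker.1 hx)
    exact conj_eq_one_iff.1 h)
  have key : ∀ x, C.πA (ρ x) = fl 1 * C.πA x * (fl 1)⁻¹ := fun x => congrArg Subtype.val (hρ x)
  have ha : ρ C.a = C.a := by
    rcases (C.factsA.1 (ρ C.a)).1 (by rw [key, C.kA.1, mul_one, mul_inv_cancel]) with e | e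
    · exact absurd (ρ.injective (e.trans (map_one ρ).symm)) C.a1
    · exact e
  refine ⟨ρ, ha, ?_, key⟩
  have hj : C.πA (ρ C.j * C.j'⁻¹) = 1 := by rw [map_mul, map_inv, key, C.conj, mul_inv_cancel]
  have hj' : ρ C.j = C.j' ∨ ρ C.j = C.a * C.j' := by
    rcases (C.factsA.1 _).1 hj with e | e
    · exact Or.inl (mul_inv_eq_one.1 e)
    · exact Or.inr (mul_inv_eq_iff_eq_mul.1 e)
  rw [← C.jj, map_mul]
  rcases hj' with e | e <;> rw [e]
  · rw [C.jj', C.jj]
  · have hc := Subgroup.mem_center_iff.1 (C.cen ((C.ker _).2 (Or.inr (Or.inl rfl)))) C.j'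
    rw [show C.a * C.j' * (C.a * C.j') = C.a * (C.j' * C.a) * C.j' by group, hc, ← mul_assoc, C.aa,
      one_mul, C.jj', C.jj]

/-- Automorphisms move the first central element to each of the three. -/
theorem Cover.exists_move : ∀ x, x = C.a ∨ x = C.b ∨ x = C.a * C.b → ∃ α : MulAut K, α C.a = x := by
  obtain ⟨α, hα⟩ := C.exists_aut C.pA C.pB C.pA_surj C.pB_surj C.pB_ker C.pA_ker
  obtain ⟨ρ, -, hρb, -⟩ := C.exists_swap
  have hαa : α C.a = C.b := by
    rcases (C.pB_one (α C.a)).1 (by rw [hα]; exact (C.pA_one _).2 (Or.inr rfl)) with e | e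
    · exact absurd (α.injective (e.trans (map_one α).symm)) C.a1
    · exact e
  rintro x (rfl | rfl | rfl)
  · exact ⟨1, rfl⟩
  · exact ⟨α, hαa⟩
  · exact ⟨ρ * α, by rw [MulAut.mul_apply, hαa, hρb]⟩

theorem Cover.ab_facts : C.a * C.b ≠ 1 ∧ C.a * C.b ≠ C.a ∧ C.a * C.b ≠ C.b :=
  ⟨fun e => C.ab ((eq_inv_of_mul_eq_one_left e).trans (inv_eq_of_mul_eq_one_right C.bb)),
    fun e => C.b1 (mul_left_cancel (e.trans (mul_one C.a).symm)),
    fun e => C.a1 (mul_right_cancel (e.trans (one_mul C.b).symm))⟩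

theorem Cover.exists_pair : ∀ x y, (x = C.a ∨ x = C.b ∨ x = C.a * C.b) →
    (y = C.a ∨ y = C.b ∨ y = C.a * C.b) → x ≠ y → ∃ α : MulAut K, α C.a = x ∧ α C.b = y := by
  intro x y hx hy hxy
  obtain ⟨α, hα⟩ := C.exists_move x hx
  obtain ⟨ρ, hρa, hρb, -⟩ := C.exists_swap
  have hb : α C.b ∈ C.σ.ker := C.map_ker α ((C.ker _).2 (Or.inr (Or.inr (Or.inl rfl))))
  by_cases he : α C.b = y
  · exact ⟨α, hα, he⟩
  refine ⟨α * ρ, by rw [MulAut.mul_apply, hρa, hα], ?_⟩
  rw [MulAut.mul_apply, hρb, map_mul, hα]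
  have h1 : α C.b ≠ 1 := fun e => C.b1 (α.injective (e.trans (map_one α).symm))
  have h2 : α C.b ≠ x := fun e => C.ab (α.injective (hα.trans e.symm))
  have hb' := (C.ker _).1 hb
  have hba := C.comm_ab
  have aab : C.a * (C.a * C.b) = C.b := by rw [← mul_assoc, C.aa, one_mul]
  have aba : C.a * C.b * C.a = C.b := by rw [hba, mul_assoc, C.aa, mul_one]
  have bab : C.b * (C.a * C.b) = C.a := by rw [hba, ← mul_assoc, C.bb, one_mul]
  have abb : C.a * C.b * C.b = C.a := by rw [mul_assoc, C.bb, mul_one]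
  rcases hb' with e | e | e | e <;> rcases hx with rfl | rfl | rfl <;> rcases hy with rfl | rfl | rfl <;>
    first
    | exact absurd e h1
    | exact absurd e h2
    | exact absurd e he
    | exact absurd rfl hxy
    | (rw [e] <;> first | exact aab | exact aba | exact bab | exact abb | exact hba.symm | rfl)

/-- Every automorphism of the cover fixing two central elements is inner. -/
theorem Cover.inner_of_fix (γ : MulAut K) (ha : γ C.a = C.a) (hb : γ C.b = C.b) :
    ∃ k, ∀ x, γ x = k * x * k⁻¹ := by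
  classical
  have e : ∀ α : MulAut K, ∃ β : MulAut Q8, ∀ x, β (C.σ x) = C.σ (α x) := by
    intro α
    have hk : C.σ.ker.map α.toMonoidHom = C.σ.ker := by
      refine le_antisymm (by rintro _ ⟨x, hx, rfl⟩; exact C.map_ker α hx) fun x hx => ?_
      exact ⟨α⁻¹ x, C.map_ker α⁻¹ hx, MulAut.apply_inv_self _ α x⟩
    let e0 := QuotientGroup.quotientKerEquivOfSurjective C.σ C.surj
    refine ⟨(e0.symm.trans (QuotientGroup.congr _ _ α hk)).trans e0, fun x => ?_⟩
    have h0 : e0.symm (C.σ x) = (x : K ⧸ C.σ.ker) := by rw [MulEquiv.symm_apply_eq]; rfl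
    simp only [MulEquiv.trans_apply, h0]
    rfl
  choose Φ hΦ using e
  let T : MulAut K → Cfsg.Out Q8 := fun α => QuotientGroup.mk (Φ α)
  have inner : ∀ α β : MulAut K, T α = T β → ∃ k, ∀ x, (α⁻¹ * β) x = k * x * k⁻¹ := by
    intro α β h
    obtain ⟨q, hq⟩ := QuotientGroup.eq.1 h
    obtain ⟨k, rfl⟩ := C.surj q
    have hs : C.σ.comp (α⁻¹ * β).toMonoidHom = C.σ.comp (MulAut.conj k).toMonoidHom := by
      refine MonoidHom.ext fun x => ?_
      show C.σ ((α⁻¹ * β) x) = C.σ (k * x * k⁻¹)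
      rw [map_mul, map_mul, map_inv]
      have h1 := DFunLike.congr_fun hq (C.σ x)
      simp only [MulAut.mul_apply, MulAut.conj_apply] at h1
      have hi : ∀ y, (Φ α)⁻¹ (C.σ y) = C.σ (α⁻¹ y) := fun y => by
        apply (Φ α).injective
        rw [MulAut.apply_inv_self, hΦ, MulAut.apply_inv_self]
      rw [h1, hΦ, hi]
      rfl
    exact ⟨k, fun x => DFunLike.congr_fun (Multiplier.lift_unique C.perf C.σ C.cen _ _ hs) x⟩
  have val_inj : Function.Injective ![C.a, C.b, C.a * C.b] := by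
    obtain ⟨h1, h2, h3⟩ := C.ab_facts
    intro i j h
    fin_cases i <;> fin_cases j <;>
      first
      | rfl
      | exact absurd h C.ab
      | exact absurd h C.ab.symm
      | exact absurd h h2
      | exact absurd h h2.symm
      | exact absurd h h3
      | exact absurd h h3.symm
  -- seven automorphisms with different classes
  have hpairs : ∀ p : {p : Fin 3 × Fin 3 // p.1 ≠ p.2}, ∃ α : MulAut K,
      α C.a = ![C.a, C.b, C.a * C.b] p.1.1 ∧ α C.b = ![C.a, C.b, C.a * C.b] p.1.2 ∧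
        (α C.a = C.a → α C.b = C.b → α = 1) := by
    intro ⟨⟨i, j⟩, hij⟩
    obtain ⟨h1, h2, h3⟩ := C.ab_facts
    by_cases h01 : i = 0 ∧ j = 1
    · obtain ⟨rfl, rfl⟩ := h01
      exact ⟨1, rfl, rfl, fun _ _ => rfl⟩
    obtain ⟨α, e1, e2⟩ : ∃ α : MulAut K, α C.a = ![C.a, C.b, C.a * C.b] i ∧
        α C.b = ![C.a, C.b, C.a * C.b] j := by
      refine C.exists_pair _ _ (by fin_cases i <;> simp) (by fin_cases j <;> simp) ?_
      exact fun e => hij (val_inj e)
    refine ⟨α, e1, e2, fun u v => absurd ⟨?_, ?_⟩ h01⟩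
    · exact val_inj (e1.symm.trans u : ![C.a, C.b, C.a * C.b] i = ![C.a, C.b, C.a * C.b] 0)
    · exact val_inj (e2.symm.trans v : ![C.a, C.b, C.a * C.b] j = ![C.a, C.b, C.a * C.b] 1)
  choose A hA using hpairs
  by_contra hne
  let f : Option {p : Fin 3 × Fin 3 // p.1 ≠ p.2} → Cfsg.Out Q8 := fun o => o.elim (T γ) (fun p => T (A p))
  have sep : ∀ α β : MulAut K, T α = T β → α C.a = β C.a ∧ α C.b = β C.b := by
    intro α β h
    obtain ⟨k, hk⟩ := inner α β h
    have : ∀ x ∈ C.σ.ker, α x = β x := by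
      intro x hx
      have h1 := hk x
      rw [Subgroup.mem_center_iff.1 (C.cen hx) k, mul_inv_cancel_right, MulAut.mul_apply] at h1
      calc α x = α (α⁻¹ (β x)) := by rw [h1]
        _ = β x := MulAut.apply_inv_self _ _ _
    exact ⟨this _ ((C.ker _).2 (Or.inr (Or.inl rfl))), this _ ((C.ker _).2 (Or.inr (Or.inr (Or.inl rfl))))⟩
  have idp : ∀ p, A p C.a = C.a → A p C.b = C.b → T (A p) = T γ → False := by
    intro p h1 h2 h3
    obtain ⟨k', hk'⟩ := inner (A p) γ h3
    refine hne ⟨k', fun x => ?_⟩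
    have := hk' x
    rwa [(hA p).2.2 h1 h2, inv_one, one_mul] at this
  have hinj : Function.Injective f := by
    rintro (_ | p) (_ | q) h
    · rfl
    · exfalso
      obtain ⟨h1, h2⟩ := sep _ _ h
      exact idp q (h1.symm.trans ha) (h2.symm.trans hb) h.symm
    · exfalso
      obtain ⟨h1, h2⟩ := sep _ _ h
      exact idp p (h1.trans ha) (h2.trans hb) h
    · obtain ⟨h1, h2⟩ := sep _ _ h
      rw [(hA p).1, (hA q).1] at h1
      rw [(hA p).2.1, (hA q).2.1] at h2
      exact congrArg some (Subtype.ext (Prod.ext (val_inj h1) (val_inj h2)))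
  have h7 := Nat.card_le_card_of_injective f hinj
  rw [card_out_Q8, Nat.card_eq_fintype_card, show Fintype.card
    (Option {p : Fin 3 × Fin 3 // p.1 ≠ p.2}) = 7 by decide +kernel] at h7
  omega

/-- A perfect double cover of the simple group is isomorphic to the rotation group. -/
theorem exists_iso {E : Type*} [Group E] [Finite E] (hE : commutator E = ⊤)
    (hZ : Nat.card (Subgroup.center E) = 2) (hX : Nonempty (E ⧸ Subgroup.center E ≃* Q8)) :
    Nonempty (W1 ≃* E) := by
  obtain ⟨C⟩ := exists_cover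
  obtain ⟨e⟩ := hX
  let ξ : E →* Q8 := e.toMonoidHom.comp (QuotientGroup.mk' _)
  have hξ : Function.Surjective ξ := e.surjective.comp (QuotientGroup.mk'_surjective _)
  have hξk : ξ.ker ≤ Subgroup.center E := fun x hx => (QuotientGroup.eq_one_iff x).1 (by
    have h : e (x : E ⧸ Subgroup.center E) = 1 := hx
    exact e.map_eq_one_iff.1 h)
  obtain ⟨η, hη⟩ := Multiplier.exists_lift_of_trivial C.perf O8Mult.multiplier_K C.σ ξ hξ hξk
  have hr : η.range ⊔ ξ.ker = ⊤ := by
    refine top_le_iff.1 fun d _ => ?_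
    obtain ⟨x, hx⟩ := C.surj (ξ d)
    have h1 : (η x)⁻¹ * d ∈ ξ.ker := by
      rw [MonoidHom.mem_ker, map_mul, map_inv,
        show ξ (η x) = ξ d from (DFunLike.congr_fun hη x).trans hx, inv_mul_cancel]
    have := (η.range ⊔ ξ.ker).mul_mem
      (Subgroup.mem_sup_left (show η x ∈ η.range from ⟨_, rfl⟩)) (Subgroup.mem_sup_right h1)
    rwa [mul_inv_cancel_left] at this
  have hsurj : Function.Surjective η := by
    have h2 := Multiplier.commutator_le_of_sup_central _ _ hξk hr
    rw [hE] at h2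
    refine MonoidHom.range_eq_top.1 (top_le_iff.1 (h2.trans ?_))
    rw [Subgroup.commutator_le]
    intro a ha b hb
    rw [commutatorElement_def]
    exact mul_mem (mul_mem (mul_mem ha hb) (inv_mem ha)) (inv_mem hb)
  have hker : η.ker ≤ C.σ.ker := fun x hx => by
    rw [MonoidHom.mem_ker, ← hη, MonoidHom.comp_apply, MonoidHom.mem_ker.1 hx, map_one]
  have hcE : Nat.card E = 348364800 := by
    rw [Subgroup.card_eq_card_quotient_mul_card_subgroup (Subgroup.center E), hZ,
      Nat.card_congr e.toEquiv, card_Q8]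
  have hk2 : Nat.card η.ker = 2 := by
    have hi := η.ker.index_mul_card
    rw [Subgroup.index_ker, MonoidHom.range_eq_top.2 hsurj, Subgroup.card_top, hcE, card_K] at hi
    omega
  obtain ⟨k, hk⟩ := (Nat.card_eq_two_iff' (1 : η.ker)).1 hk2
  have hkσ := (C.ker _).1 (hker k.2)
  have hk1 : (k : K) ≠ 1 := fun e => hk.1 (Subtype.ext e)
  obtain ⟨α, hα⟩ := C.exists_move k.1 (hkσ.resolve_left hk1)
  let θ : K →* E := η.comp α.toMonoidHom
  have hθ : Function.Surjective θ := hsurj.comp α.surjective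
  have hkerθ : θ.ker = C.pA.ker := by
    ext x
    rw [MonoidHom.mem_ker, MonoidHom.mem_ker, C.pA_one]
    constructor
    · intro hx
      have hm : α x ∈ η.ker := hx
      by_cases h1 : x = 1
      · exact Or.inl h1
      · refine Or.inr (α.injective ?_)
        rw [hα]
        exact congrArg Subtype.val (hk.2 ⟨α x, hm⟩ fun e => h1 (α.injective
          ((congrArg Subtype.val e).trans (map_one α).symm)))
    · rintro (rfl | rfl)
      · exact map_one θ
      · show η (α C.a) = 1
        rw [hα]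
        exact k.2
  exact ⟨(QuotientGroup.quotientKerEquivOfSurjective C.pA C.pA_surj).symm.trans
    ((QuotientGroup.quotientMulEquivOfEq hkerθ.symm).trans
      (QuotientGroup.quotientKerEquivOfSurjective θ hθ))⟩

/-- Automorphisms of the rotation group are conjugations by elements of the Weyl group. -/
theorem aut_W1 (α : MulAut W1) : ∃ w ∈ WE, ∀ x : W1, (α x).1 = w * x.1 * w⁻¹ := by
  obtain ⟨C⟩ := exists_cover
  obtain ⟨γ, hγ⟩ := C.exists_aut (α.toMonoidHom.comp C.pA) C.pA (α.surjective.comp C.pA_surj) C.pA_surj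
    C.pA_ker (fun x hx => C.pA_ker (α.injective (hx.trans (map_one α).symm)))
  have ha : γ C.a = C.a := by
    rcases (C.pA_one (γ C.a)).1 (by
      rw [hγ]
      show α (C.pA C.a) = 1
      rw [(C.pA_one _).2 (Or.inr rfl), map_one]) with e | e
    · exact absurd (γ.injective (e.trans (map_one γ).symm)) C.a1
    · exact e
  have fin : ∀ u ∈ WE, ∀ δ : MulAut K, δ C.a = C.a → δ C.b = C.b →
      (∀ x, C.πA (δ x) = u * (α (C.pA x)).1 * u⁻¹) → ∃ w ∈ WE, ∀ x : W1, (α x).1 = w * x.1 * w⁻¹ := by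
    intro u hu δ h1 h2 h3
    obtain ⟨k, hk⟩ := C.inner_of_fix δ h1 h2
    refine ⟨u⁻¹ * C.πA k, mul_mem (inv_mem hu) (W1_le (C.memA k)), fun x => ?_⟩
    obtain ⟨y, rfl⟩ := C.pA_surj x
    have h := h3 y
    rw [hk, map_mul, map_mul, map_inv] at h
    calc (α (C.pA y)).1 = u⁻¹ * (u * (α (C.pA y)).1 * u⁻¹) * u := by group
      _ = _ := by rw [← h]; simp only [Cover.pA, MonoidHom.codRestrict_apply]; group
  have key : ∀ x, C.πA (γ x) = (α (C.pA x)).1 := fun x => congrArg Subtype.val (hγ x)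
  have hb : γ C.b = C.b ∨ γ C.b = C.a * C.b := by
    rcases (C.ker _).1 (C.map_ker γ ((C.ker _).2 (Or.inr (Or.inr (Or.inl rfl))))) with e | e | e | e
    · exact absurd (γ.injective (e.trans (map_one γ).symm)) C.b1
    · exact absurd (γ.injective (ha.trans e.symm)) C.ab
    · exact Or.inl e
    · exact Or.inr e
  rcases hb with e | e
  · exact fin 1 (one_mem _) γ ha e (fun x => by rw [key]; group)
  · obtain ⟨ρ, hρa, hρb, hρ⟩ := C.exists_swap
    refine fin (fl 1) (fl_mem (by norm_num)) (ρ * γ) (by rw [MulAut.mul_apply, ha, hρa]) ?_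
      (fun x => by rw [MulAut.mul_apply, hρ, key])
    rw [MulAut.mul_apply, e, map_mul, hρa, hρb, ← mul_assoc, C.aa, one_mul]

end Cfsg.Agent.Lib.StdO8
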