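import Cfsg.Agent.Lib.StdO8.Local

/-!
# The permutations of the frame, the four roots of a plane and a centraliser without square roots
-/

set_option autoImplicit false
set_option Elab.async false
set_option maxRecDepth 20000

namespace Cfsg.Agent.Lib.StdO8

open Matrix Cfsg.Agent.Lib.Computation
open scoped commutatorElement

/-- The image of a mask under a generator of the frame permutations. -/
def act (g m : ℕ) : ℕ :=
  (List.range 8).foldl (fun acc k => if m.testBit k then acc ||| 2 ^ ((aglP.getD g []).getD k 0) else acc) 0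

/-- A generator of the frame permutations. -/
noncomputable def agl (g : Fin 2) : Perm240 := decodeP 240 8 (aglC.getD g.val 0)

theorem agl_ok : ((List.range 2).all fun g => inW1 (aglC.getD g 0) && (List.range 256).all fun m =>
    Nat.blt (act g m) 256 &&
      Nat.beq (mulP 240 8 (aglC.getD g 0) (flC m)) (mulP 240 8 (flC (act g m)) (aglC.getD g 0))) = true := by
  decide +kernel

theorem agl_mem (g : Fin 2) : agl g ∈ W1 := by
  have h := List.all_eq_true.1 agl_ok g.val (List.mem_range.2 g.isLt)
  simp only [Bool.and_eq_true] at h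
  exact mem_rot h.1

theorem act_lt (g : Fin 2) {m : ℕ} (hm : m < 256) : act g.val m < 256 := by
  have h := List.all_eq_true.1 agl_ok g.val (List.mem_range.2 g.isLt)
  simp only [Bool.and_eq_true, List.all_eq_true, List.mem_range] at h
  simpa [Nat.blt] using (h.2 m hm).1

theorem agl_conj (g : Fin 2) {m : ℕ} (hm : m < 256) : agl g * fl m * (agl g)⁻¹ = fl (act g.val m) := by
  have h := List.all_eq_true.1 agl_ok g.val (List.mem_range.2 g.isLt)
  simp only [Bool.and_eq_true, List.all_eq_true, List.mem_range, inW1, Nat.beq_eq, Nat.blt_eq] at h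
  obtain ⟨⟨hg, -⟩, hall⟩ := h
  obtain ⟨hlt, e⟩ := hall m hm
  have e1 := congrArg (decodeP 240 8) e
  rw [decodeP_mulP hg (flC_ok' hm), decodeP_mulP (flC_ok' hlt) hg] at e1
  rw [mul_inv_eq_iff_eq_mul]
  exact e1

/-- One round of closing a set of masks under the generators. -/
def spread (s : ℕ) : ℕ :=
  (List.range 256).foldl (fun acc m => if s.testBit m then acc ||| 2 ^ act 0 m ||| 2 ^ act 1 m else acc) s

/-- The masks reached from a mask. -/
def orbitBits (r : ℕ) : ℕ := (List.range 14).foldl (fun s _ => spread s) (2 ^ r)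

theorem testBit_foldl {f : ℕ → ℕ} {j : ℕ} : ∀ {l : List ℕ} {a : ℕ} {P : ℕ → Bool},
    (l.foldl (fun acc m => if P m then acc ||| f m else acc) a).testBit j = true →
      a.testBit j = true ∨ ∃ m ∈ l, P m = true ∧ (f m).testBit j = true := by
  intro l
  induction l with
  | nil => intro a P h; exact Or.inl h
  | cons x l ih =>
    intro a P h
    rw [List.foldl_cons] at h
    rcases ih h with h | ⟨m, hm, h1, h2⟩
    · by_cases hx : P x = true
      · simp only [hx, if_true, Nat.testBit_or, Bool.or_eq_true] at h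
        rcases h with h | h
        · exact Or.inl h
        · exact Or.inr ⟨x, List.mem_cons_self, hx, h⟩
      · simp only [hx, if_false] at h
        exact Or.inl h
    · exact Or.inr ⟨m, List.mem_cons_of_mem _ hm, h1, h2⟩

theorem spread_spec {s j : ℕ} (h : (spread s).testBit j = true) :
    s.testBit j = true ∨ ∃ m, m < 256 ∧ s.testBit m = true ∧ ∃ g : Fin 2, j = act g.val m := by
  have h' : ((List.range 256).foldl (fun acc m => if s.testBit m then acc ||| (2 ^ act 0 m ||| 2 ^ act 1 m)
      else acc) s).testBit j = true := by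
    simpa only [spread, Nat.lor_assoc] using h
  rcases testBit_foldl h' with h | ⟨m, hm, h1, h2⟩
  · exact Or.inl h
  · simp only [Nat.testBit_or, Bool.or_eq_true, Nat.testBit_two_pow, decide_eq_true_eq] at h2
    rcases h2 with rfl | rfl
    · exact Or.inr ⟨m, List.mem_range.1 hm, h1, 0, rfl⟩
    · exact Or.inr ⟨m, List.mem_range.1 hm, h1, 1, rfl⟩

/-- Invariant predicates are constant on the listed orbits. -/
theorem orbit_induct {Q : ℕ → Prop} (hQ : ∀ g : Fin 2, ∀ m < 256, Q m → Q (act g.val m)) {r m : ℕ}
    (hr : Q r) (hm : (orbitBits r).testBit m = true) : Q m := by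
  have key : ∀ n j, ((List.range n).foldl (fun s _ => spread s) (2 ^ r)).testBit j = true → Q j := by
    intro n
    induction n with
    | zero =>
      intro j hj
      simp only [List.range_zero, List.foldl_nil, Nat.testBit_two_pow, decide_eq_true_eq] at hj
      exact hj ▸ hr
    | succ n ih =>
      intro j hj
      rw [List.range_succ, List.foldl_append, List.foldl_cons, List.foldl_nil] at hj
      rcases spread_spec hj with h | ⟨m, hm, h1, g, rfl⟩
      · exact ih j h
      · exact hQ g m hm (ih m h1)
  exact key 14 m hm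

theorem classes_ok : ((List.range 256).all fun m => Nat.beq m 0 || Nat.beq m 255 ||
    [3, 252, 15, 23, 1, 127, 7, 31].any fun r => (orbitBits r).testBit m) = true := by decide +kernel

theorem mask_class {m : ℕ} (hm : m < 256) :
    m = 0 ∨ m = 255 ∨ ∃ r ∈ [3, 252, 15, 23, 1, 127, 7, 31], (orbitBits r).testBit m = true := by
  have h := List.all_eq_true.1 classes_ok m (List.mem_range.2 hm)
  simp only [Bool.or_eq_true, Nat.beq_eq, List.any_eq_true] at h
  rcases h with (h | h) | h
  · exact Or.inl h
  · exact Or.inr (Or.inl h)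
  · exact Or.inr (Or.inr h)

/-- The fixed masks of the frame permutations. -/
theorem fixed_masks : ∀ m : Fin 256, act 0 m.val = m.val → act 1 m.val = m.val → m.val = 0 ∨ m.val = 255 := by
  decide +kernel

/-! ### The four roots -/

/-- The roots fixed by the six-dimensional sign change. -/
def four (i : Fin 4) : Fin 240 :=
  if i.val < 2 then fpt ⟨i.val, by omega⟩
  else Fin.ofNat 240 (getW 8 (flC 255) (fpt ⟨i.val - 2, by omega⟩).val)

theorem four_fixed : ∀ j : Fin 240, getW 8 (flC 252) j.val = j.val → ∃ i, four i = j := by decide +kernel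

theorem four_fix : ∀ i : Fin 4, getW 8 (flC 252) (four i).val = (four i).val := by decide +kernel

theorem four_neg : ∀ i : Fin 4, getW 8 (flC 255) (four i).val = (four (i + 2)).val := by decide +kernel

theorem four_inj : ∀ i j : Fin 4, four i = four j → i = j := by decide +kernel

/-- A map of the four roots from the images of two of them. -/
def four_map (a b i : Fin 4) : Fin 4 :=
  if i = 0 then a else if i = 1 then b else if i = 2 then a + 2 else b + 2

theorem four_comm : ∀ a b c d : Fin 4, b ≠ a → b ≠ a + 2 → d ≠ c → d ≠ c + 2 →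
    (∀ i, four_map a b (four_map c d i) = four_map c d (four_map a b i)) ∨
    (∀ i, four_map a b (four_map c d i) = four_map c d (four_map a b i) + 2) := by decide +kernel

theorem nn_four (i : Fin 4) : nn (four i) = four (i + 2) := by
  refine Fin.ext ?_
  rw [nn, fl, decodeP_apply (flC_ok' (by norm_num)), four_neg]

theorem q_four (i : Fin 4) : fl 252 (four i) = four i := by
  refine Fin.ext ?_
  rw [fl, decodeP_apply (flC_ok' (by norm_num)), four_fix]

theorem four_of_fixed {j : Fin 240} (h : fl 252 j = j) : ∃ i, four i = j := by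
  refine four_fixed j ?_
  have := congrArg Fin.val h
  rwa [fl, decodeP_apply (flC_ok' (by norm_num))] at this

theorem four_maps {x : Perm240} (hx : x ∈ C1 (fl 252)) :
    ∃ a b : Fin 4, b ≠ a ∧ b ≠ a + 2 ∧ ∀ i, x (four i) = four (four_map a b i) := by
  obtain ⟨hW, hc⟩ := mem_C1.1 hx
  have hn := nn_central (W1_le hW)
  have himg : ∀ i, ∃ j, four j = x (four i) := fun i => four_of_fixed (by
    have := Equiv.ext_iff.1 hc (four i)
    simp only [Equiv.Perm.coe_mul, Function.comp_apply, q_four] at this
    exact this.symm)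
  obtain ⟨a, ha⟩ := himg 0
  obtain ⟨b, hb⟩ := himg 1
  have hneg : ∀ i, x (four (i + 2)) = nn (x (four i)) := fun i => by
    rw [← nn_four]
    exact (Equiv.ext_iff.1 hn (four i)).symm
  refine ⟨a, b, ?_, ?_, fun i => ?_⟩
  · rintro rfl
    exact absurd (four_inj _ _ (x.injective (hb.symm.trans ha))) (by decide)
  · rintro rfl
    have e : x (four 1) = x (four (0 + 2)) := by rw [hneg 0, ← ha, ← hb, nn_four]
    exact absurd (four_inj _ _ (x.injective e)) (by decide)
  · fin_cases i
    · exact ha.symm
    · exact hb.symm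
    · show x (four (0 + 2)) = four (a + 2)
      rw [hneg 0, ← ha, nn_four]
    · show x (four (1 + 2)) = four (b + 2)
      rw [hneg 1, ← hb, nn_four]

/-- The negation is outside the second derived subgroup of the centraliser. -/
theorem nn_not_derived : nn ∉ D1 (D1 (C1 (fl 252))) := by
  intro h
  have h1 : ∀ x ∈ D1 (C1 (fl 252)), (∀ i, x (four i) = four i) ∨ (∀ i, x (four i) = four (i + 2)) := by
    intro x hx
    refine Subgroup.closure_induction (p := fun x _ =>
      (∀ i, x (four i) = four i) ∨ (∀ i, x (four i) = four (i + 2))) ?_ (Or.inl fun _ => rfl) ?_ ?_ hx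
    · rintro _ ⟨u, hu, v, hv, rfl⟩
      obtain ⟨a, b, h1, h2, hU⟩ := four_maps hu
      obtain ⟨c, d, h3, h4, hV⟩ := four_maps hv
      obtain ⟨a', b', -, -, hUV⟩ := four_maps (mul_mem (inv_mem hu) (inv_mem hv))
      have key : ∀ i, (u * v) ((u⁻¹ * v⁻¹) (four i)) = ⁅u, v⁆ (four i) ∧
          (v * u) ((u⁻¹ * v⁻¹) (four i)) = four i := fun i =>
        ⟨by rw [commutatorElement_def]; rfl, by
          simp only [Equiv.Perm.coe_mul, Function.comp_apply, Equiv.Perm.coe_inv, Equiv.apply_symm_apply]⟩
      rcases four_comm a b c d h1 h2 h3 h4 with e | e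
      · refine Or.inl fun i => ?_
        obtain ⟨k1, k2⟩ := key i
        rw [hUV, Equiv.Perm.coe_mul, Function.comp_apply, hV, hU] at k1
        rw [hUV, Equiv.Perm.coe_mul, Function.comp_apply, hU, hV, ← e] at k2
        rw [← k1, k2]
      · refine Or.inr fun i => ?_
        obtain ⟨k1, k2⟩ := key i
        rw [hUV, Equiv.Perm.coe_mul, Function.comp_apply, hV, hU, e] at k1
        rw [hUV, Equiv.Perm.coe_mul, Function.comp_apply, hU, hV] at k2
        rw [← k1, four_inj _ _ k2]
    · intro x y _ _ hx hy
      have two : ∀ i : Fin 4, i + 2 + 2 = i := by decide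
      rcases hx with hx | hx <;> rcases hy with hy | hy
      · exact Or.inl fun i => by simp [hy, hx]
      · exact Or.inr fun i => by simp [hy, hx]
      · exact Or.inr fun i => by simp [hy, hx]
      · exact Or.inl fun i => by simp [hy, hx, two]
    · intro x _ hx
      rcases hx with hx | hx
      · exact Or.inl fun i => by rw [Equiv.Perm.inv_eq_iff_eq, hx]
      · refine Or.inr fun i => ?_
        have two : ∀ i : Fin 4, i + 2 + 2 = i := by decide
        rw [Equiv.Perm.inv_eq_iff_eq, hx, two]
  have h2 : ∀ x ∈ D1 (D1 (C1 (fl 252))), ∀ i, x (four i) = four i := by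
    intro x hx
    refine Subgroup.closure_induction (p := fun x _ => ∀ i, x (four i) = four i) ?_ (fun _ => rfl) ?_ ?_ hx
    · rintro _ ⟨u, hu, v, hv, rfl⟩ i
      have shift : ∀ y ∈ D1 (C1 (fl 252)), ∃ s : Fin 4, ∀ i, y (four i) = four (i + s) := fun y hy =>
        (h1 y hy).elim (fun e => ⟨0, fun i => by rw [add_zero, e]⟩) fun e => ⟨2, e⟩
      obtain ⟨s, hs⟩ := shift u hu
      obtain ⟨t, ht⟩ := shift v hv
      have inv : ∀ (y : Perm240) (s : Fin 4), (∀ i, y (four i) = four (i + s)) →
          ∀ i, y⁻¹ (four i) = four (i - s) := fun y s h i => by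
        rw [Equiv.Perm.inv_eq_iff_eq, h, sub_add_cancel]
      rw [commutatorElement_def, Equiv.Perm.coe_mul, Function.comp_apply, Equiv.Perm.coe_mul,
        Function.comp_apply, Equiv.Perm.coe_mul, Function.comp_apply, inv v t ht, inv u s hs, ht, hs]
      congr 1
      abel
    · intro x y _ _ hx hy i; simp [hx, hy]
    · intro x _ hx i; rw [Equiv.Perm.inv_eq_iff_eq, hx]
  have e := h2 nn h 0
  rw [nn_four] at e
  exact absurd (four_inj _ _ e) (by decide)

/-! ### No square roots -/

/-- The possible images of a frame root. -/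
def cand (l : ℕ) : List ℕ :=
  (List.range 240).filter fun j => bListC.all fun b =>
    (Nat.beq (getW 8 b j) j == Nat.beq (getW 8 b (frame.getD l 0)) (frame.getD l 0)) &&
    (Nat.beq (getW 8 b j) (getW 8 (flC 255) j) ==
      Nat.beq (getW 8 b (frame.getD l 0)) (getW 8 (flC 255) (frame.getD l 0)))

/-- A coordinate of a root given by index. -/
def Pn (i k : ℕ) : ℤ := (getW 4 (rows.getD k 0) i : ℤ) - 2

/-- The images are not those of a square root. -/
def badRoot (v : List ℕ) : Bool :=
  ([3, 252].all fun m => (List.range 8).any fun k => (List.range 8).any fun l =>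
    !decide ((List.range 8).foldl (fun acc a => acc + Pn (v.getD a 0) k * Pn (v.getD l 0) a) 0 =
      if k = l then (if m.testBit k then -4 else 4) else 0)) ||
  (List.range 240).all fun j => (List.range 8).any fun k =>
    !decide ((List.range 8).foldl (fun acc l => acc + Pn (v.getD l 0) k * Pn 14 l) 0 = 2 * Pn j k)

theorem bad_all : ((cand 0).all fun a => (cand 1).all fun b => (cand 2).all fun c => (cand 3).all fun d =>
    (cand 4).all fun e => (cand 5).all fun f => (cand 6).all fun g => (cand 7).all fun h =>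
      badRoot [a, b, c, d, e, f, g, h]) = true := by decide +kernel

theorem bList_codes : bListC.all (fun b => okPerm 240 8 b) = true := by decide +kernel

theorem frame_val : ∀ k : Fin 8, (fpt k).val = frame.getD k.val 0 := by decide +kernel

theorem mem_cand {w : Perm240} (hw : w ∈ WE) (hB : ∀ b ∈ bList, b * w = w * b) (l : Fin 8) :
    (w (fpt l)).val ∈ cand l.val := by
  refine List.mem_filter.2 ⟨List.mem_range.2 (w (fpt l)).isLt, List.all_eq_true.2 fun b hb => ?_⟩
  have hok := List.all_eq_true.1 bList_codes b hb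
  have hn : okPerm 240 8 (flC 255) = true := flC_ok' (by norm_num)
  have hc : ∀ i, decodeP 240 8 b (w i) = w (decodeP 240 8 b i) := fun i =>
    Equiv.ext_iff.1 (hB _ (List.mem_map.2 ⟨b, hb, rfl⟩)) i
  have hcn : ∀ i, nn (w i) = w (nn i) := fun i => Equiv.ext_iff.1 (nn_central hw) i
  simp only [← frame_val, ← decodeP_apply hok, ← decodeP_apply hn]
  have key : ∀ (i j i' j' : Fin 240), (i = j ↔ i' = j') → (Nat.beq i.val j.val == Nat.beq i'.val j'.val) = true := by
    intro i j i' j' h
    rw [beq_iff_eq, Bool.eq_iff_iff, Nat.beq_eq, Nat.beq_eq, Fin.val_inj, Fin.val_inj]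
    exact h
  refine Bool.and_eq_true_iff.2 ⟨key _ _ _ _ (by rw [hc, w.injective.eq_iff]), key _ _ _ _ ?_⟩
  show decodeP 240 8 b (w (fpt l)) = nn (w (fpt l)) ↔ decodeP 240 8 b (fpt l) = nn (fpt l)
  rw [hc, hcn, w.injective.eq_iff]

/-- No element commuting with the list squares to either of the two sign changes. -/
theorem sq_excluded {w : Perm240} (hw : w ∈ WE) (hB : ∀ b ∈ bList, b * w = w * b) :
    w * w ≠ fl 3 ∧ w * w ≠ fl 252 := by
  set v : List ℕ := [(w (fpt 0)).val, (w (fpt 1)).val, (w (fpt 2)).val, (w (fpt 3)).val, (w (fpt 4)).val,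
    (w (fpt 5)).val, (w (fpt 6)).val, (w (fpt 7)).val]
  have hbad : badRoot v = true := by
    have h := bad_all
    simp only [List.all_eq_true] at h
    exact h _ (mem_cand hw hB 0) _ (mem_cand hw hB 1) _ (mem_cand hw hB 2) _ (mem_cand hw hB 3)
      _ (mem_cand hw hB 4) _ (mem_cand hw hB 5) _ (mem_cand hw hB 6) _ (mem_cand hw hB 7)
  have hv : ∀ a : Fin 8, v.getD a.val 0 = (w (fpt a)).val := fun a => by fin_cases a <;> rfl
  have fold : ∀ f : ℕ → ℤ, (List.range 8).foldl (fun acc a => acc + f a) 0 = ∑ a : Fin 8, f a.val := by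
    intro f
    simp [List.range_succ, Fin.sum_univ_eight]
  have hP : ∀ (i : Fin 240) (k : Fin 8), Pn i.val k.val = P i k := fun _ _ => rfl
  have main : ∀ m, (m = 3 ∨ m = 252) → w * w ≠ fl m := by
    intro m hm e
    have hm256 : m < 256 := by omega
    simp only [badRoot, Bool.or_eq_true, List.all_eq_true, List.any_eq_true, List.mem_range,
      Bool.not_eq_true', decide_eq_false_iff_not] at hbad
    rcases hbad with h | h
    · obtain ⟨k, hk, l, hl, hne⟩ := h m (by rcases hm with rfl | rfl <;> simp)
      refine hne ?_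
      rw [fold]
      have e1 := congrFun (congrFun (congrArg M e) ⟨k, hk⟩) ⟨l, hl⟩
      rw [M_mul' hw, M_fl hm256, mul_apply, diagonal_apply] at e1
      have e2 : ∀ a : Fin 8, (Pn (v.getD a.val 0) k : ℚ) * (Pn (v.getD l 0) a.val : ℚ) =
          4 * (M w ⟨k, hk⟩ a * M w a ⟨l, hl⟩) := fun a => by
        rw [hv a, show v.getD l 0 = (w (fpt ⟨l, hl⟩)).val from hv ⟨l, hl⟩]
        simp only [M, of_apply, ← hP]
        ring
      have e3 : ((∑ a : Fin 8, Pn (v.getD a.val 0) k * Pn (v.getD l 0) a.val : ℤ) : ℚ) =
          ((if k = l then (if m.testBit k then -4 else 4) else 0 : ℤ) : ℚ) := by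
        push_cast
        rw [Finset.sum_congr rfl fun a _ => e2 a, ← Finset.mul_sum, e1]
        simp only [Fin.mk.injEq, sgn]
        split_ifs <;> norm_num
      exact_mod_cast e3
    · obtain ⟨k, hk, hne⟩ := h (w (14 : Fin 240)).val (w _).isLt
      refine hne ?_
      rw [fold]
      have e1 := (lin_of_mem hw).1 (14 : Fin 240) ⟨k, hk⟩
      have e3 : ((∑ a : Fin 8, Pn (v.getD a.val 0) k * Pn 14 a.val : ℤ) : ℚ) =
          ((2 * Pn (w (14 : Fin 240)).val k : ℤ) : ℚ) := by
        push_cast
        rw [show (Pn (w (14 : Fin 240)).val k : ℚ) = (P (w (14 : Fin 240)) ⟨k, hk⟩ : ℚ) from rfl,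
          e1, Finset.mul_sum]
        refine Finset.sum_congr rfl fun a _ => ?_
        rw [hv a, show Pn 14 a.val = P (14 : Fin 240) a from rfl,
          show Pn (w (fpt a)).val k = P (w (fpt a)) ⟨k, hk⟩ from rfl]
        simp only [M, of_apply]
        ring
      exact_mod_cast e3
  exact ⟨main 3 (Or.inl rfl), main 252 (Or.inr rfl)⟩

end Cfsg.Agent.Lib.StdO8
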