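import Mathlib.LinearAlgebra.Trace
import Mathlib.LinearAlgebra.Projection
import Mathlib.LinearAlgebra.Matrix.ToLin
import Mathlib.LinearAlgebra.Matrix.ToLinearEquiv
import Mathlib.LinearAlgebra.FiniteDimensional.Lemmas
import Mathlib.LinearAlgebra.Matrix.NonsingularInverse
import Mathlib.LinearAlgebra.Matrix.Charpoly.LinearMap
import Mathlib.Algebra.Module.Submodule.RestrictScalars
import Mathlib.Data.Set.Card
import Mathlib.Tactic.Linarith
import Mathlib.Tactic.FieldSimp

/-!
# Sets of commuting involutory linear maps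
-/

set_option autoImplicit false

namespace Cfsg.Agent.Lib.StdO8.LinAlg

open Module

universe u

/-- Commuting involutory maps containing the identity. -/
structure Sign {V : Type u} [AddCommGroup V] [Module ℚ V] (A : Set (End ℚ V)) : Prop where
  one : (1 : End ℚ V) ∈ A
  sq : ∀ a ∈ A, a * a = 1
  comm : ∀ a ∈ A, ∀ b ∈ A, a * b = b * a

/-- The three assertions in a dimension. -/
def Goal (n : ℕ) : Prop :=
  ∀ (V : Type u) [AddCommGroup V] [Module ℚ V] [FiniteDimensional ℚ V], finrank ℚ V = n →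
    ∀ A : Set (End ℚ V), Sign A → A.Finite ∧ A.ncard ≤ 2 ^ n ∧
      (A.ncard = 2 ^ n → n ≤ {b ∈ A | LinearMap.trace ℚ V b = (n : ℚ) - 2}.ncard) ∧
      (∀ J : End ℚ V, J * J = -1 → (∀ a ∈ A, a * J = J * a) → A.ncard ^ 2 ≤ 2 ^ n)

theorem goal : ∀ n, Goal.{u} n := by
  intro n
  induction n using Nat.strong_induction_on with
  | _ n ih =>
  intro V _ _ _ hn A hA
  classical
  by_cases hscal : ∀ a ∈ A, a = 1 ∨ a = -1
  · have hsub : A ⊆ {1, -1} := fun a ha => by simpa using hscal a ha
    have hfin : A.Finite := (Set.toFinite _).subset hsub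
    have h2 : A.ncard ≤ 2 := (Set.ncard_le_ncard hsub (Set.toFinite _)).trans
      ((Set.ncard_insert_le _ _).trans (by rw [Set.ncard_singleton]))
    rcases n with _ | n
    · have : Subsingleton V := Module.finrank_zero_iff.1 hn
      have : Subsingleton (End ℚ V) := ⟨fun f g => LinearMap.ext fun _ => Subsingleton.elim _ _⟩
      have h1 : A.ncard ≤ 1 := Set.ncard_le_one_of_subsingleton A
      exact ⟨hfin, by simpa using h1, fun _ => Nat.zero_le _, fun J _ _ => by
        simpa using Nat.pow_le_pow_left h1 2⟩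
    · have : Nontrivial V := Module.nontrivial_of_finrank_pos (R := ℚ) (by omega)
      have hp : 2 ≤ 2 ^ (n + 1) := by
        calc 2 = 2 ^ 1 := rfl
          _ ≤ 2 ^ (n + 1) := Nat.pow_le_pow_right (by norm_num) (by omega)
      refine ⟨hfin, h2.trans hp, fun he => ?_, fun J hJ _ => ?_⟩
      · have hn0 : n = 0 := by
          by_contra h0
          have : 2 ^ 2 ≤ 2 ^ (n + 1) := Nat.pow_le_pow_right (by norm_num) (by omega)
          omega
        subst hn0
        have hA2 : A = {1, -1} := Set.eq_of_subset_of_ncard_le hsub (by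
          rw [he]; exact (Set.ncard_insert_le _ _).trans (by rw [Set.ncard_singleton]; norm_num))
        refine Nat.one_le_iff_ne_zero.2 ((Set.ncard_ne_zero_of_mem (a := (-1 : End ℚ V)) ?_
          (hfin.subset fun _ h => h.1)))
        refine ⟨by rw [hA2]; simp, ?_⟩
        rw [map_neg, LinearMap.trace_one, hn]
        norm_num
      · have hn1 : n ≠ 0 := by
          rintro rfl
          obtain ⟨v, hv⟩ := exists_ne (0 : V)
          obtain ⟨c, hc⟩ := exists_smul_eq_of_finrank_eq_one hn hv (J v)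
          have h3 : J (J v) = -v := by
            have := LinearMap.congr_fun hJ v
            simpa using this
          rw [← hc, map_smul, ← hc, smul_smul, ← neg_one_smul ℚ v] at h3
          have := smul_left_injective ℚ hv h3
          nlinarith [mul_self_nonneg c]
        calc A.ncard ^ 2 ≤ 2 ^ 2 := Nat.pow_le_pow_left h2 2
          _ ≤ 2 ^ (n + 1) := Nat.pow_le_pow_right (by norm_num) (by omega)
  · push Not at hscal
    obtain ⟨a, ha, ha1, ha2⟩ := hscal
    have haa : ∀ v, a (a v) = v := fun v => LinearMap.congr_fun (hA.sq a ha) v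
    set p : Submodule ℚ V := LinearMap.ker (a - 1) with hp
    set q : Submodule ℚ V := LinearMap.ker (a + 1) with hq
    have hp_mem : ∀ v, v ∈ p ↔ a v = v := fun v => by
      rw [hp, LinearMap.mem_ker]; simp [sub_eq_zero]
    have hq_mem : ∀ v, v ∈ q ↔ a v = -v := fun v => by
      rw [hq, LinearMap.mem_ker]; simp [add_eq_zero_iff_eq_neg]
    have hc : IsCompl p q := by
      refine ⟨disjoint_iff.2 (eq_bot_iff.2 fun v hv => ?_), codisjoint_iff.2 (eq_top_iff.2 fun v _ => ?_)⟩
      · have h1 := (hp_mem v).1 hv.1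
        rw [(hq_mem v).1 hv.2] at h1
        rw [Submodule.mem_bot]
        have h2 : (2 : ℚ) • v = 0 := by
          rw [two_smul]
          nth_rewrite 1 [← h1]
          exact neg_add_cancel v
        exact (smul_eq_zero.1 h2).resolve_left (by norm_num)
      · refine Submodule.mem_sup.2 ⟨(1 / 2 : ℚ) • (v + a v), ?_, (1 / 2 : ℚ) • (v - a v), ?_, ?_⟩
        · rw [hp_mem, map_smul, map_add, haa, add_comm]
        · rw [hq_mem, map_smul, map_sub, haa, ← smul_neg, neg_sub]
        · rw [← smul_add, show v + a v + (v - a v) = (2 : ℚ) • v by rw [two_smul]; abel, smul_smul]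
          norm_num
    have hp0 : p ≠ ⊥ := fun h => ha2 (LinearMap.ext fun v => by
      have hv : v ∈ q := by
        have := hc.sup_eq_top
        rw [h, bot_sup_eq] at this
        rw [this]; trivial
      simpa using (hq_mem v).1 hv)
    have hq0 : q ≠ ⊥ := fun h => ha1 (LinearMap.ext fun v => by
      have hv : v ∈ p := by
        have := hc.sup_eq_top
        rw [h, sup_bot_eq] at this
        rw [this]; trivial
      simpa using (hp_mem v).1 hv)
    have hdim : finrank ℚ p + finrank ℚ q = n := by rw [← hn]; exact Submodule.finrank_add_eq_of_isCompl hc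
    have hpp : 0 < finrank ℚ p := Submodule.one_le_finrank_iff.2 hp0
    have hqq : 0 < finrank ℚ q := Submodule.one_le_finrank_iff.2 hq0
    have stab : ∀ b : End ℚ V, a * b = b * a → (∀ v ∈ p, b v ∈ p) ∧ (∀ v ∈ q, b v ∈ q) := by
      intro b hb
      have hb' : ∀ v, a (b v) = b (a v) := fun v => LinearMap.congr_fun hb v
      exact ⟨fun v hv => by rw [hp_mem, hb', (hp_mem v).1 hv],
        fun v hv => by rw [hq_mem, hb', (hq_mem v).1 hv, map_neg]⟩
    let rp : ∀ b : End ℚ V, End ℚ p := fun b =>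
      if h : a * b = b * a then LinearMap.restrict b (stab b h).1 else 0
    let rq : ∀ b : End ℚ V, End ℚ q := fun b =>
      if h : a * b = b * a then LinearMap.restrict b (stab b h).2 else 0
    have rp_apply : ∀ {b}, a * b = b * a → ∀ v : p, ((rp b v : p) : V) = b v := fun h v => by
      simp only [rp, dif_pos h]; rfl
    have rq_apply : ∀ {b}, a * b = b * a → ∀ v : q, ((rq b v : q) : V) = b v := fun h v => by
      simp only [rq, dif_pos h]; rfl
    have cm : ∀ b ∈ A, a * b = b * a := fun b hb => hA.comm a ha b hb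
    have sp : Sign (rp '' A) := by
      refine ⟨⟨1, hA.one, LinearMap.ext fun v => Subtype.ext ?_⟩, ?_, ?_⟩
      · rw [rp_apply (cm 1 hA.one)]; rfl
      · rintro _ ⟨b, hb, rfl⟩
        refine LinearMap.ext fun v => Subtype.ext ?_
        show ((rp b (rp b v) : p) : V) = v
        rw [rp_apply (cm b hb), rp_apply (cm b hb)]
        exact LinearMap.congr_fun (hA.sq b hb) _
      · rintro _ ⟨b, hb, rfl⟩ _ ⟨c, hc', rfl⟩
        refine LinearMap.ext fun v => Subtype.ext ?_
        show ((rp b (rp c v) : p) : V) = ((rp c (rp b v) : p) : V)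
        rw [rp_apply (cm b hb), rp_apply (cm c hc'), rp_apply (cm c hc'), rp_apply (cm b hb)]
        exact LinearMap.congr_fun (hA.comm b hb c hc') _
    have sq' : Sign (rq '' A) := by
      refine ⟨⟨1, hA.one, LinearMap.ext fun v => Subtype.ext ?_⟩, ?_, ?_⟩
      · rw [rq_apply (cm 1 hA.one)]; rfl
      · rintro _ ⟨b, hb, rfl⟩
        refine LinearMap.ext fun v => Subtype.ext ?_
        show ((rq b (rq b v) : q) : V) = v
        rw [rq_apply (cm b hb), rq_apply (cm b hb)]
        exact LinearMap.congr_fun (hA.sq b hb) _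
      · rintro _ ⟨b, hb, rfl⟩ _ ⟨c, hc', rfl⟩
        refine LinearMap.ext fun v => Subtype.ext ?_
        show ((rq b (rq c v) : q) : V) = ((rq c (rq b v) : q) : V)
        rw [rq_apply (cm b hb), rq_apply (cm c hc'), rq_apply (cm c hc'), rq_apply (cm b hb)]
        exact LinearMap.congr_fun (hA.comm b hb c hc') _
    obtain ⟨fp, lp, ep, jp⟩ := ih _ (by omega) p rfl _ sp
    obtain ⟨fq, lq, eq', jq⟩ := ih _ (by omega) q rfl _ sq'
    set f : End ℚ V → End ℚ p × End ℚ q := fun b => (rp b, rq b) with hf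
    have finj : Set.InjOn f A := by
      intro b hb c hc' e
      have e1 := congrArg Prod.fst e
      have e2 := congrArg Prod.snd e
      simp only [hf] at e1 e2
      refine LinearMap.ext fun v => ?_
      obtain ⟨x, hx, y, hy, rfl⟩ := Submodule.mem_sup.1 (hc.sup_eq_top ▸ Submodule.mem_top : v ∈ p ⊔ q)
      have h1 := rp_apply (cm b hb) ⟨x, hx⟩
      have h2 := rq_apply (cm b hb) ⟨y, hy⟩
      rw [e1, rp_apply (cm c hc')] at h1
      rw [e2, rq_apply (cm c hc')] at h2
      simp only [map_add, ← h1, ← h2]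
    have fim : f '' A ⊆ (rp '' A) ×ˢ (rq '' A) := by
      rintro _ ⟨b, hb, rfl⟩
      exact ⟨⟨b, hb, rfl⟩, ⟨b, hb, rfl⟩⟩
    have hprod : A.ncard ≤ (rp '' A).ncard * (rq '' A).ncard := by
      rw [← Set.ncard_prod, ← Set.InjOn.ncard_image finj]
      exact Set.ncard_le_ncard fim (fp.prod fq)
    have hfin : A.Finite := Set.Finite.of_finite_image ((fp.prod fq).subset fim) finj
    refine ⟨hfin, ?_, ?_, ?_⟩
    · exact hprod.trans ((Nat.mul_le_mul lp lq).trans (by rw [← pow_add, hdim]))
    · intro he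
      have htr : ∀ b ∈ A, LinearMap.trace ℚ V b =
          LinearMap.trace ℚ p (rp b) + LinearMap.trace ℚ q (rq b) := by
        intro b hb
        have e : b = ((Submodule.prodEquivOfIsCompl p q hc).conj (LinearMap.prodMap (rp b) (rq b))) := by
          refine LinearMap.ext fun v => ?_
          obtain ⟨w, rfl⟩ := (Submodule.prodEquivOfIsCompl p q hc).surjective v
          simp [LinearEquiv.conj_apply, rp_apply (cm b hb), rq_apply (cm b hb)]
        conv_lhs => rw [e, LinearMap.trace_conj', LinearMap.trace_prodMap']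
      have hmul : (rp '' A).ncard * (rq '' A).ncard ≤ 2 ^ finrank ℚ p * 2 ^ finrank ℚ q :=
        Nat.mul_le_mul lp lq
      rw [← pow_add, hdim, ← he] at hmul
      have hP : (rp '' A).ncard = 2 ^ finrank ℚ p := by
        refine le_antisymm lp (Nat.le_of_mul_le_mul_right ?_ (Nat.two_pow_pos (finrank ℚ q)))
        calc 2 ^ finrank ℚ p * 2 ^ finrank ℚ q = A.ncard := by rw [← pow_add, hdim, he]
          _ ≤ _ := hprod.trans (Nat.mul_le_mul_left _ lq)
      have hQ : (rq '' A).ncard = 2 ^ finrank ℚ q := by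
        refine le_antisymm lq (Nat.le_of_mul_le_mul_left ?_ (Nat.two_pow_pos (finrank ℚ p)))
        calc 2 ^ finrank ℚ p * 2 ^ finrank ℚ q = A.ncard := by rw [← pow_add, hdim, he]
          _ ≤ _ := hprod.trans (Nat.mul_le_mul_right _ lp)
      have hsurj : f '' A = (rp '' A) ×ˢ (rq '' A) := by
        refine Set.eq_of_subset_of_ncard_le fim ?_ (fp.prod fq)
        rw [Set.ncard_prod, Set.InjOn.ncard_image finj]
        exact hmul
      have Sp := ep hP
      have Sq := eq' hQ
      set X := {x ∈ rp '' A | LinearMap.trace ℚ p x = (finrank ℚ p : ℚ) - 2} ×ˢ ({1} : Set (End ℚ q))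
      set Y := ({1} : Set (End ℚ p)) ×ˢ {y ∈ rq '' A | LinearMap.trace ℚ q y = (finrank ℚ q : ℚ) - 2}
      have hXY : X ∪ Y ⊆ f '' {b ∈ A | LinearMap.trace ℚ V b = (n : ℚ) - 2} := by
        rintro ⟨x, y⟩ hxy
        have hmem : (x, y) ∈ f '' A := by
          rw [hsurj]
          rcases hxy with ⟨⟨h1, -⟩, h2⟩ | ⟨h1, ⟨h2, -⟩⟩
          · exact ⟨h1, by rw [show y = 1 from h2]; exact sq'.one⟩
          · exact ⟨by rw [show x = 1 from h1]; exact sp.one, h2⟩
        obtain ⟨b, hb, e⟩ := hmem
        simp only [hf, Prod.mk.injEq] at e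
        refine ⟨b, ⟨hb, ?_⟩, Prod.ext e.1 e.2⟩
        rw [htr b hb, e.1, e.2, ← hdim, Nat.cast_add]
        rcases hxy with ⟨⟨-, h1⟩, h2⟩ | ⟨h1, ⟨-, h2⟩⟩
        · rw [h1, show y = 1 from h2, LinearMap.trace_one]; ring
        · rw [h2, show x = 1 from h1, LinearMap.trace_one]; ring
      have hX : X.Finite := (fp.subset fun _ h => h.1).prod (Set.finite_singleton _)
      have hY : Y.Finite := (Set.finite_singleton _).prod (fq.subset fun _ h => h.1)
      have hd : Disjoint X Y := by
        rw [Set.disjoint_left]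
        rintro ⟨x, y⟩ ⟨⟨-, h1⟩, -⟩ ⟨h2, -⟩
        simp only at h1 h2
        rw [show x = 1 from h2, LinearMap.trace_one] at h1
        linarith
      calc n = finrank ℚ p + finrank ℚ q := hdim.symm
        _ ≤ X.ncard + Y.ncard := by
          refine Nat.add_le_add ?_ ?_
          · rw [Set.ncard_prod, Set.ncard_singleton, mul_one]; exact Sp
          · rw [Set.ncard_prod, Set.ncard_singleton, one_mul]; exact Sq
        _ = (X ∪ Y).ncard := (Set.ncard_union_eq hd hX hY).symm
        _ ≤ (f '' {b ∈ A | LinearMap.trace ℚ V b = (n : ℚ) - 2}).ncard :=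
          Set.ncard_le_ncard hXY ((hfin.subset fun _ h => h.1).image f)
        _ ≤ _ := Set.ncard_image_le (hfin.subset fun _ h => h.1)
    · intro J hJ hcJ
      have hj := hcJ a ha
      have h1 := jp (rp J) (LinearMap.ext fun v => Subtype.ext (by
        show ((rp J (rp J v) : p) : V) = -(v : V)
        rw [rp_apply hj, rp_apply hj]
        exact LinearMap.congr_fun hJ _)) (by
        rintro _ ⟨b, hb, rfl⟩
        refine LinearMap.ext fun v => Subtype.ext ?_
        show ((rp b (rp J v) : p) : V) = ((rp J (rp b v) : p) : V)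
        rw [rp_apply (cm b hb), rp_apply hj, rp_apply hj, rp_apply (cm b hb)]
        exact LinearMap.congr_fun (hcJ b hb) _)
      have h2 := jq (rq J) (LinearMap.ext fun v => Subtype.ext (by
        show ((rq J (rq J v) : q) : V) = -(v : V)
        rw [rq_apply hj, rq_apply hj]
        exact LinearMap.congr_fun hJ _)) (by
        rintro _ ⟨b, hb, rfl⟩
        refine LinearMap.ext fun v => Subtype.ext ?_
        show ((rq b (rq J v) : q) : V) = ((rq J (rq b v) : q) : V)
        rw [rq_apply (cm b hb), rq_apply hj, rq_apply hj, rq_apply (cm b hb)]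
        exact LinearMap.congr_fun (hcJ b hb) _)
      calc A.ncard ^ 2 ≤ ((rp '' A).ncard * (rq '' A).ncard) ^ 2 := Nat.pow_le_pow_left hprod 2
        _ = (rp '' A).ncard ^ 2 * (rq '' A).ncard ^ 2 := mul_pow _ _ _
        _ ≤ 2 ^ finrank ℚ p * 2 ^ finrank ℚ q := Nat.mul_le_mul h1 h2
        _ = 2 ^ n := by rw [← pow_add, hdim]

/-! ### Matrices -/

open Matrix

variable {ι : Type} [Fintype ι] [DecidableEq ι]

theorem matrix_sign {A : Set (Matrix ι ι ℚ)} (h1 : (1 : Matrix ι ι ℚ) ∈ A) (hs : ∀ a ∈ A, a * a = 1)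
    (hc : ∀ a ∈ A, ∀ b ∈ A, a * b = b * a) : Sign (Matrix.toLinAlgEquiv' (R := ℚ) '' A) := by
  refine ⟨⟨1, h1, map_one _⟩, ?_, ?_⟩
  · rintro _ ⟨a, ha, rfl⟩
    rw [← map_mul, hs a ha, map_one]
  · rintro _ ⟨a, ha, rfl⟩ _ ⟨b, hb, rfl⟩
    rw [← map_mul, ← map_mul, hc a ha b hb]

/-- Commuting involutory matrices. -/
theorem sign_le {A : Set (Matrix ι ι ℚ)} (h1 : (1 : Matrix ι ι ℚ) ∈ A) (hs : ∀ a ∈ A, a * a = 1)
    (hc : ∀ a ∈ A, ∀ b ∈ A, a * b = b * a) :
    A.Finite ∧ A.ncard ≤ 2 ^ Fintype.card ι ∧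
      (A.ncard = 2 ^ Fintype.card ι →
        Fintype.card ι ≤ {b ∈ A | b.trace = (Fintype.card ι : ℚ) - 2}.ncard) := by
  obtain ⟨hf, hle, heq, -⟩ := goal (Fintype.card ι) (ι → ℚ) (Module.finrank_fintype_fun_eq_card ℚ)
    _ (matrix_sign h1 hs hc)
  have hi : Function.Injective (Matrix.toLinAlgEquiv' (R := ℚ) (n := ι)) := AlgEquiv.injective _
  rw [Set.ncard_image_of_injective _ hi] at hle heq
  refine ⟨Set.Finite.of_finite_image hf hi.injOn, hle, fun h => (heq h).trans ?_⟩
  refine le_of_eq ?_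
  rw [← Set.ncard_image_of_injective {b ∈ A | b.trace = (Fintype.card ι : ℚ) - 2} hi]
  congr 1
  ext y
  constructor
  · rintro ⟨⟨b, hb, rfl⟩, ht⟩
    exact ⟨b, ⟨hb, by rw [← ht]; exact (Matrix.trace_toLin'_eq b).symm⟩, rfl⟩
  · rintro ⟨b, ⟨hb, ht⟩, rfl⟩
    exact ⟨⟨b, hb, rfl⟩, by rw [← ht]; exact Matrix.trace_toLin'_eq b⟩

/-- Commuting involutory matrices commuting with a complex structure. -/
theorem complex_le {A : Set (Matrix ι ι ℚ)} (h1 : (1 : Matrix ι ι ℚ) ∈ A) (hs : ∀ a ∈ A, a * a = 1)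
    (hc : ∀ a ∈ A, ∀ b ∈ A, a * b = b * a) {J : Matrix ι ι ℚ} (hJ : J * J = -1)
    (hcJ : ∀ a ∈ A, a * J = J * a) : A.ncard ^ 2 ≤ 2 ^ Fintype.card ι := by
  obtain ⟨-, -, -, hj⟩ := goal (Fintype.card ι) (ι → ℚ) (Module.finrank_fintype_fun_eq_card ℚ)
    _ (matrix_sign h1 hs hc)
  have hi : Function.Injective (Matrix.toLinAlgEquiv' (R := ℚ) (n := ι)) := AlgEquiv.injective _
  have h := hj (Matrix.toLinAlgEquiv' J) (by rw [← map_mul, hJ, map_neg, map_one]) (by
    rintro _ ⟨a, ha, rfl⟩
    rw [← map_mul, ← map_mul, hcJ a ha])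
  rwa [Set.ncard_image_of_injective _ hi] at h

/-- An orthogonal matrix of determinant minus one has no even power equal to minus one. -/
theorem pow_two_mul_ne_neg_one {B : Matrix ι ι ℚ} (ho : Bᵀ * B = 1) (hd : B.det = -1) (k : ℕ) :
    B ^ (2 * k) ≠ -1 := by
  intro hk
  have h0 : (1 + B).det = 0 := by
    have h : (1 + B).det = -(1 + B).det := by
      calc (1 + B).det = ((B + 1)ᵀ).det := by rw [det_transpose, add_comm]
        _ = (Bᵀ * (1 + B)).det := by rw [transpose_add, transpose_one, mul_add, mul_one, ho]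
        _ = -(1 + B).det := by rw [det_mul, det_transpose, hd, neg_one_mul]
    linarith
  obtain ⟨v, hv, hv0⟩ := exists_mulVec_eq_zero_iff.2 h0
  rw [add_mulVec, one_mulVec, add_eq_zero_iff_eq_neg] at hv0
  have hBv : B *ᵥ v = -v := by rw [eq_comm, neg_eq_iff_eq_neg]; exact hv0
  have hp : ∀ m : ℕ, B ^ (2 * m) *ᵥ v = v := by
    intro m
    induction m with
    | zero => rw [Nat.mul_zero, pow_zero, one_mulVec]
    | succ m ih =>
      rw [Nat.mul_succ, pow_add, ← mulVec_mulVec, pow_two, ← mulVec_mulVec, hBv, mulVec_neg, hBv,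
        neg_neg, ih]
  have h2 := hp k
  rw [hk, neg_mulVec, one_mulVec] at h2
  exact hv (by
    ext i
    have := congrFun h2 i
    simp only [Pi.neg_apply] at this
    simp only [Pi.zero_apply]
    linarith)

end Cfsg.Agent.Lib.StdO8.LinAlg
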