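import Cfsg.Agent.Lib.StdO8.Model
import Cfsg.Agent.Lib.StdO8.RotData
import Cfsg.Agent.Lib.StdO8.LocalData
import Mathlib.Tactic.LinearCombination

/-!
# Facts on the centralisers of the frame involutions inside the rotation group
-/

set_option autoImplicit false
set_option Elab.async false
set_option maxRecDepth 20000

namespace Cfsg.Agent.Lib.StdO8

open Matrix Cfsg.Agent.Lib.Computation
open scoped commutatorElement

theorem rot_ok : (permRep 240 8 (by decide)).checkChain rot_chain = true :=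
  (permRep 240 8 (by decide)).checkChain_of_checkClosure rot_check

theorem refls_data : ((List.range 8).all fun i =>
    inWE (simpleTrans.getD i 0) && okPerm 240 8 (simpleRefls.getD i 0) &&
      Nat.beq (mulP 240 8 (simpleRefls.getD i 0) (simpleTrans.getD i 0))
        (mulP 240 8 (simpleTrans.getD i 0) (flC 1))) = true := by decide +kernel

theorem rot_gens_eq : rot_gens =
    (List.range 7).map (fun i => mulP 240 8 (simpleRefls.getD 0 0) (simpleRefls.getD (i + 1) 0)) := by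
  decide +kernel

theorem refl_facts {i : ℕ} (hi : i < 8) : okPerm 240 8 (simpleRefls.getD i 0) = true ∧
    decodeP 240 8 (simpleRefls.getD i 0) ∈ WE ∧ (M (decodeP 240 8 (simpleRefls.getD i 0))).det = -1 := by
  have h := List.all_eq_true.1 refls_data i (List.mem_range.2 hi)
  simp only [Bool.and_eq_true, Nat.beq_eq] at h
  obtain ⟨⟨ht, hr⟩, e⟩ := h
  have htW := mem_WE ht
  simp only [inWE, Bool.and_eq_true] at ht
  have hf : okPerm 240 8 (flC 1) = true := by
    have h := (fl_data ⟨1, by norm_num⟩).1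
    simp only [inWE, Bool.and_eq_true] at h
    exact h.1
  have e1 := congrArg (decodeP 240 8) e
  rw [decodeP_mulP hr ht.1, decodeP_mulP ht.1 hf] at e1
  set t := decodeP 240 8 (simpleTrans.getD i 0)
  set r := decodeP 240 8 (simpleRefls.getD i 0)
  have e2 : r = t * fl 1 * t⁻¹ := by rw [eq_mul_inv_iff_mul_eq]; exact e1
  refine ⟨hr, e2 ▸ mul_mem (mul_mem htW (fl_mem (by norm_num))) (inv_mem htW), ?_⟩
  have e3 : (M t).det * (M t⁻¹).det = 1 := by rw [← det_mul, ← M_mul' htW, mul_inv_cancel, M_one, det_one]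
  rw [e2, M_mul' (mul_mem htW (fl_mem (by norm_num))), M_mul' htW, det_mul, det_mul, det_fl_one]
  linear_combination -e3

/-- A code of a rotation. -/
noncomputable def inW1 (c : ℕ) : Bool := okPerm 240 8 c && (permRep 240 8 (by decide)).sift rot_chain c

theorem mem_rot {c : ℕ} (h : inW1 c = true) : decodeP 240 8 c ∈ W1 := by
  simp only [inW1, Bool.and_eq_true] at h
  refine (?_ : (permRep 240 8 (by decide)).grp rot_chain ≤ W1)
    ((permRep 240 8 (by decide)).mem_grp_of_sift rot_ok h.1 h.2)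
  rw [← (permRep 240 8 (by decide)).closure_eq_grp rot_check, Subgroup.closure_le]
  rintro _ ⟨c, hc, rfl⟩
  rw [rot_gens_eq] at hc
  obtain ⟨i, hi, rfl⟩ := List.mem_map.1 hc
  obtain ⟨a1, a2, a3⟩ := refl_facts (i := 0) (by norm_num)
  obtain ⟨b1, b2, b3⟩ := refl_facts (i := i + 1) (by have := List.mem_range.1 hi; omega)
  show decodeP 240 8 _ ∈ W1
  rw [decodeP_mulP a1 b1]
  refine mem_W1.2 ⟨mul_mem a2 b2, ?_⟩
  rw [M_mul' a2, det_mul, a3, b3]
  norm_num

/-- The commutator subgroup of a subgroup. -/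
def D1 (H : Subgroup Perm240) : Subgroup Perm240 := ⁅H, H⁆

theorem D1_mono {H K : Subgroup Perm240} (h : H ≤ K) : D1 H ≤ D1 K := Subgroup.commutator_mono h h

theorem D1_le (H : Subgroup Perm240) : D1 H ≤ H := by
  rw [D1, Subgroup.commutator_le]
  intro a ha b hb
  rw [commutatorElement_def]
  exact mul_mem (mul_mem (mul_mem ha hb) (inv_mem ha)) (inv_mem hb)

/-- The rotations commuting with an element. -/
noncomputable def C1 (t : Perm240) : Subgroup Perm240 := W1 ⊓ Subgroup.centralizer {t}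

theorem mem_C1 {t x : Perm240} : x ∈ C1 t ↔ x ∈ W1 ∧ x * t = t * x := by
  rw [C1, Subgroup.mem_inf, Subgroup.mem_centralizer_singleton_iff]

/-- A commutator with entries in the group of a chain. -/
noncomputable def commOk (ch : List (Level ℕ)) (e : ℕ × ℕ × ℕ) : Bool :=
  okPerm 240 8 e.1 && okPerm 240 8 e.2.1 && okPerm 240 8 e.2.2 &&
    (permRep 240 8 (by decide)).sift ch e.1 && (permRep 240 8 (by decide)).sift ch e.2.1 &&
    Nat.beq (mulP 240 8 e.2.2 (mulP 240 8 e.2.1 e.1)) (mulP 240 8 e.1 e.2.1)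

/-- A commutator of rotations commuting with an element. -/
noncomputable def baseOk (t : ℕ) (e : ℕ × ℕ × ℕ) : Bool :=
  inW1 e.1 && inW1 e.2.1 && okPerm 240 8 e.2.2 &&
    Nat.beq (mulP 240 8 e.1 t) (mulP 240 8 t e.1) && Nat.beq (mulP 240 8 e.2.1 t) (mulP 240 8 t e.2.1) &&
    Nat.beq (mulP 240 8 e.2.2 (mulP 240 8 e.2.1 e.1)) (mulP 240 8 e.1 e.2.1)

theorem comm_of {a b c : ℕ} (ha : okPerm 240 8 a = true) (hb : okPerm 240 8 b = true)
    (hc : okPerm 240 8 c = true) (h : mulP 240 8 c (mulP 240 8 b a) = mulP 240 8 a b) :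
    decodeP 240 8 c = ⁅decodeP 240 8 a, decodeP 240 8 b⁆ := by
  have e := congrArg (decodeP 240 8) h
  rw [decodeP_mulP hc (okPerm_mulP hb ha), decodeP_mulP hb ha, decodeP_mulP ha hb] at e
  rw [commutatorElement_def, ← e]
  group

theorem base_le {t : ℕ} (ht : okPerm 240 8 t = true) {l : List (ℕ × ℕ × ℕ)} {g : List ℕ}
    {st : List (Step ℕ)} {ch : List (Level ℕ)}
    (hch : (permRep 240 8 (by decide)).checkClosure g st ch = true) (hg : g = l.map (fun e => e.2.2))
    (h : l.all (baseOk t) = true) :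
    (permRep 240 8 (by decide)).grp ch ≤ D1 (C1 (decodeP 240 8 t)) := by
  rw [← (permRep 240 8 (by decide)).closure_eq_grp hch, Subgroup.closure_le]
  rintro _ ⟨c, hc, rfl⟩
  rw [hg] at hc
  obtain ⟨⟨a, b, c⟩, he, rfl⟩ := List.mem_map.1 hc
  have h1 := List.all_eq_true.1 h _ he
  simp only [baseOk, Bool.and_eq_true, Nat.beq_eq] at h1
  obtain ⟨⟨⟨⟨⟨ha, hb⟩, hok⟩, ca⟩, cb⟩, e⟩ := h1
  have wa := mem_rot ha
  have wb := mem_rot hb
  simp only [inW1, Bool.and_eq_true] at ha hb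
  show decodeP 240 8 c ∈ _
  rw [comm_of ha.1 hb.1 hok e]
  have ea := congrArg (decodeP 240 8) ca
  rw [decodeP_mulP ha.1 ht, decodeP_mulP ht ha.1] at ea
  have eb := congrArg (decodeP 240 8) cb
  rw [decodeP_mulP hb.1 ht, decodeP_mulP ht hb.1] at eb
  exact Subgroup.commutator_mem_commutator (mem_C1.2 ⟨wa, ea⟩) (mem_C1.2 ⟨wb, eb⟩)

theorem level_le {l : List (ℕ × ℕ × ℕ)} {g g' : List ℕ} {st st' : List (Step ℕ)} {ch ch' : List (Level ℕ)}
    (hch : (permRep 240 8 (by decide)).checkClosure g st ch = true)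
    (hch' : (permRep 240 8 (by decide)).checkClosure g' st' ch' = true) (hg : g' = l.map (fun e => e.2.2))
    (h : l.all (commOk ch) = true) {H : Subgroup Perm240} (hH : (permRep 240 8 (by decide)).grp ch ≤ H) :
    (permRep 240 8 (by decide)).grp ch' ≤ D1 H := by
  rw [← (permRep 240 8 (by decide)).closure_eq_grp hch', Subgroup.closure_le]
  rintro _ ⟨c, hc, rfl⟩
  rw [hg] at hc
  obtain ⟨⟨a, b, c⟩, he, rfl⟩ := List.mem_map.1 hc
  have h1 := List.all_eq_true.1 h _ he
  simp only [commOk, Bool.and_eq_true, Nat.beq_eq] at h1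
  obtain ⟨⟨⟨⟨⟨ha, hb⟩, hok⟩, sa⟩, sb⟩, e⟩ := h1
  show decodeP 240 8 c ∈ _
  rw [comm_of ha hb hok e]
  have hc0 := (permRep 240 8 (by decide)).checkChain_of_checkClosure hch
  exact Subgroup.commutator_mem_commutator
    (hH ((permRep 240 8 (by decide)).mem_grp_of_sift hc0 ha sa))
    (hH ((permRep 240 8 (by decide)).mem_grp_of_sift hc0 hb sb))

theorem locP_ok : (locP1.all (baseOk (flC 3)) && locP2.all (commOk locP1g_chain) &&
    locP3.all (commOk locP2g_chain)) = true := by decide +kernel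

theorem locS_ok : (locS1.all (baseOk (flC 15)) && locS2.all (commOk locS1g_chain)) = true := by
  decide +kernel

theorem locR_ok : (locR1.all (baseOk (flC 23)) && locR2.all (commOk locR1g_chain)) = true := by
  decide +kernel

theorem loc_gens : (locP1g_gens = locP1.map (fun e => e.2.2) ∧ locP2g_gens = locP2.map (fun e => e.2.2) ∧
    locP3g_gens = locP3.map (fun e => e.2.2)) ∧
    (locS1g_gens = locS1.map (fun e => e.2.2) ∧ locS2g_gens = locS2.map (fun e => e.2.2)) ∧
    (locR1g_gens = locR1.map (fun e => e.2.2) ∧ locR2g_gens = locR2.map (fun e => e.2.2)) := by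
  decide +kernel

theorem flC_ok' {m : ℕ} (hm : m < 256) : okPerm 240 8 (flC m) = true := by
  have h := (fl_data ⟨m, hm⟩).1
  simp only [inWE, Bool.and_eq_true] at h
  exact h.1

theorem P_levels : (permRep 240 8 (by decide)).grp locP1g_chain ≤ D1 (C1 (fl 3)) ∧
    (permRep 240 8 (by decide)).grp locP3g_chain ≤ D1 (D1 (D1 (C1 (fl 3)))) := by
  have h := locP_ok
  simp only [Bool.and_eq_true] at h
  obtain ⟨⟨g1, g2, g3⟩, -, -⟩ := loc_gens
  have l1 := base_le (flC_ok' (m := 3) (by norm_num)) locP1g_check g1 h.1.1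
  exact ⟨l1, level_le locP2g_check locP3g_check g3 h.2
    (level_le locP1g_check locP2g_check g2 h.1.2 l1)⟩

theorem S_level : (permRep 240 8 (by decide)).grp locS2g_chain ≤ D1 (D1 (C1 (fl 15))) := by
  have h := locS_ok
  simp only [Bool.and_eq_true] at h
  obtain ⟨-, ⟨g1, g2⟩, -⟩ := loc_gens
  exact level_le locS1g_check locS2g_check g2 h.2
    (base_le (flC_ok' (m := 15) (by norm_num)) locS1g_check g1 h.1)

theorem R_level : (permRep 240 8 (by decide)).grp locR2g_chain ≤ D1 (D1 (C1 (fl 23))) := by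
  have h := locR_ok
  simp only [Bool.and_eq_true] at h
  obtain ⟨-, -, ⟨g1, g2⟩⟩ := loc_gens
  exact level_le locR1g_check locR2g_check g2 h.2
    (base_le (flC_ok' (m := 23) (by norm_num)) locR1g_check g1 h.1)

theorem C1_nn_mul {t : Perm240} (ht : t ∈ WE) : C1 (nn * t) = C1 t := by
  ext x
  rw [mem_C1, mem_C1]
  refine and_congr_right fun hx => ?_
  have hxn := nn_central (W1_le hx)
  rw [← mul_assoc x, ← hxn, mul_assoc nn x t, mul_assoc nn t x, mul_right_inj]

theorem C1_q : C1 (fl 252) = C1 (fl 3) := by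
  rw [show fl 252 = nn * fl 3 by rw [nn, fl_mul (by norm_num) (by norm_num)]; rfl]
  exact C1_nn_mul (fl_mem (by norm_num))

theorem sift_ok : ((permRep 240 8 (by decide)).sift locP1g_chain (flC 3) &&
    (permRep 240 8 (by decide)).sift locP3g_chain (flC 252) &&
    (bListC.all fun b => okPerm 240 8 b && (Nat.beq b (flC 3) || (permRep 240 8 (by decide)).sift locP3g_chain b)) &&
    (aListC.all fun a => inW1 a && ((permRep 240 8 (by decide)).sift locP3g_chain a ||
      (permRep 240 8 (by decide)).sift locP3g_chain (mulP 240 8 a (flC 3))) &&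
      (permRep 240 8 (by decide)).sift locS2g_chain a) &&
    (permRep 240 8 (by decide)).sift locS2g_chain qsC && inW1 qsC && inW1 x5C && inW1 y12C &&
    (permRep 240 8 (by decide)).sift locR2g_chain (flC 43) && aListC.all (inW1 ·) &&
    inW1 (flC 3) && inW1 (flC 252) && inW1 (flC 15) && inW1 (flC 23) && inW1 (flC 43)) = true := by
  decide +kernel

theorem sift_mem {g : List ℕ} {st : List (Step ℕ)} {ch : List (Level ℕ)}
    (hch : (permRep 240 8 (by decide)).checkClosure g st ch = true) {c : ℕ}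
    (hc : okPerm 240 8 c = true) (h : (permRep 240 8 (by decide)).sift ch c = true) :
    decodeP 240 8 c ∈ (permRep 240 8 (by decide)).grp ch :=
  (permRep 240 8 (by decide)).mem_grp_of_sift
    ((permRep 240 8 (by decide)).checkChain_of_checkClosure hch) hc h

/-- The list for the centraliser of a pair. -/
noncomputable def bList : List Perm240 := bListC.map (decodeP 240 8)

/-- The elementary group of order 32. -/
noncomputable def aSet : Set Perm240 := decodeP 240 8 '' {c | c ∈ aListC}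

/-- An involution. -/
noncomputable def x5 : Perm240 := decodeP 240 8 x5C

/-- An involution. -/
noncomputable def y12 : Perm240 := decodeP 240 8 y12C

/-- An element of order four. -/
noncomputable def qs : Perm240 := decodeP 240 8 qsC

theorem loc_facts :
    fl 3 ∈ D1 (C1 (fl 252)) ∧ fl 252 ∈ D1 (D1 (D1 (C1 (fl 252)))) ∧
    (∀ b ∈ bList, b = fl 3 ∨ b ∈ D1 (D1 (C1 (fl 3)))) ∧
    (∀ a ∈ aSet, a ∈ W1 ∧ (a ∈ D1 (D1 (C1 (fl 3))) ∨ a * fl 3 ∈ D1 (D1 (C1 (fl 3)))) ∧
      a ∈ D1 (D1 (C1 (fl 15)))) ∧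
    qs ∈ D1 (D1 (C1 (fl 15))) ∧ x5 ∈ W1 ∧ y12 ∈ W1 ∧ fl 43 ∈ D1 (D1 (C1 (fl 23))) := by
  have h := sift_ok
  simp only [Bool.and_eq_true, List.all_eq_true, Bool.or_eq_true, Nat.beq_eq] at h
  obtain ⟨⟨⟨⟨⟨⟨⟨⟨⟨⟨⟨⟨⟨⟨p1, q3⟩, hb⟩, ha⟩, hq⟩, wq⟩, wx⟩, wy⟩, hy⟩, hA⟩, -⟩, -⟩, -⟩, -⟩, -⟩ := h
  obtain ⟨l1, l3⟩ := P_levels
  have d32 : D1 (D1 (D1 (C1 (fl 3)))) ≤ D1 (D1 (C1 (fl 3))) := D1_le _
  refine ⟨?_, ?_, ?_, ?_, ?_, mem_rot wx, mem_rot wy, R_level (sift_mem locR2g_check (flC_ok' (by norm_num)) hy)⟩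
  · rw [C1_q]; exact l1 (sift_mem locP1g_check (flC_ok' (by norm_num)) p1)
  · rw [C1_q]; exact l3 (sift_mem locP3g_check (flC_ok' (by norm_num)) q3)
  · intro b hb'
    obtain ⟨c, hc, rfl⟩ := List.mem_map.1 hb'
    rcases (hb c hc).2 with e | e
    · exact Or.inl (by rw [e]; rfl)
    · exact Or.inr (d32 (l3 (sift_mem locP3g_check (hb c hc).1 e)))
  · rintro _ ⟨c, hc, rfl⟩
    obtain ⟨⟨w, hp⟩, hs⟩ := ha c hc
    have wm := mem_rot w
    simp only [inW1, Bool.and_eq_true] at w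
    refine ⟨wm, ?_, S_level (sift_mem locS2g_check w.1 hs)⟩
    rcases hp with e | e
    · exact Or.inl (d32 (l3 (sift_mem locP3g_check w.1 e)))
    · refine Or.inr ?_
      have h2 := d32 (l3 (sift_mem locP3g_check (okPerm_mulP w.1 (flC_ok' (by norm_num))) e))
      rwa [decodeP_mulP w.1 (flC_ok' (by norm_num))] at h2
  · have w := wq
    simp only [inW1, Bool.and_eq_true] at w
    exact S_level (sift_mem locS2g_check w.1 hq)

theorem frame_rot : fl 3 ∈ W1 ∧ fl 252 ∈ W1 ∧ fl 15 ∈ W1 ∧ fl 23 ∈ W1 ∧ fl 43 ∈ W1 := by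
  have h := sift_ok
  simp only [Bool.and_eq_true] at h
  exact ⟨mem_rot h.1.1.1.1.2, mem_rot h.1.1.1.2, mem_rot h.1.1.2, mem_rot h.1.2, mem_rot h.2⟩

theorem rel_ok : ((Nat.beq (mulP 240 8 x5C x5C) (flC 0) && Nat.beq (mulP 240 8 y12C y12C) (flC 0) &&
    Nat.beq (mulP 240 8 (mulP 240 8 x5C y12C) (mulP 240 8 x5C y12C)) (flC 3) &&
    Nat.beq (mulP 240 8 qsC qsC) (flC 15)) &&
    Nat.beq aListC.length 32 && (aListC.any fun a => Nat.beq a (flC 0)) &&
    (List.range 32).all (fun i =>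
      let a := aListC.getD i 0
      okPerm 240 8 a &&
      Nat.beq (mulP 240 8 a a) (flC 0) && Nat.beq (mulP 240 8 a x5C) (mulP 240 8 x5C a) &&
      Nat.beq (mulP 240 8 a y12C) (mulP 240 8 y12C a) && Nat.beq (mulP 240 8 a qsC) (mulP 240 8 qsC a) &&
      (List.range i).all (fun j => !Nat.beq a (aListC.getD j 0) &&
        Nat.beq (mulP 240 8 a (aListC.getD j 0)) (mulP 240 8 (aListC.getD j 0) a))) &&
    okPerm 240 8 x5C && okPerm 240 8 y12C && okPerm 240 8 qsC) = true := by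
  decide +kernel

theorem a_pts : ((List.range 32).all fun i => (List.range i).all fun j => (List.range 240).any fun x =>
    !Nat.beq (getW 8 (aListC.getD i 0) x) (getW 8 (aListC.getD j 0) x)) = true := by decide +kernel

theorem code_ne {a b : ℕ} (ha : a < 32) (hb : b < a) :
    decodeP 240 8 (aListC.getD a 0) ≠ decodeP 240 8 (aListC.getD b 0) := by
  intro e
  have h := rel_ok
  simp only [Bool.and_eq_true, List.all_eq_true, List.mem_range] at h
  have ok : ∀ i < 32, okPerm 240 8 (aListC.getD i 0) = true := fun i hi =>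
    (h.1.1.1.2 i hi).1.1.1.1.1
  have h1 := List.all_eq_true.1 a_pts a (List.mem_range.2 ha)
  obtain ⟨x, hx, hne⟩ := List.any_eq_true.1 (List.all_eq_true.1 h1 b (List.mem_range.2 hb))
  rw [Bool.not_eq_true', ← Bool.not_eq_true, Nat.beq_eq] at hne
  refine hne ?_
  rw [← decodeP_apply (ok a ha) ⟨x, List.mem_range.1 hx⟩, e, decodeP_apply (ok b (by omega))]

theorem aSet_facts : aSet.ncard = 32 ∧ (1 : Perm240) ∈ aSet ∧
    (∀ a ∈ aSet, a * a = 1 ∧ a * x5 = x5 * a ∧ a * y12 = y12 * a ∧ a * qs = qs * a) ∧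
    (∀ a ∈ aSet, ∀ b ∈ aSet, a * b = b * a) ∧
    x5 * x5 = 1 ∧ y12 * y12 = 1 ∧ x5 * y12 * (x5 * y12) = fl 3 ∧ qs * qs = fl 15 := by
  have h := rel_ok
  simp only [Bool.and_eq_true, Nat.beq_eq, List.any_eq_true, List.all_eq_true, List.mem_range,
    Bool.not_eq_true'] at h
  obtain ⟨⟨⟨⟨⟨⟨⟨⟨⟨hx2, hy2⟩, hxy⟩, hq2⟩, hlen⟩, ⟨c0, hc0, e0⟩⟩, hall⟩, hx⟩, hy⟩, hq⟩ := h
  have h0 : decodeP 240 8 (flC 0) = 1 := fl_zero
  have dec : ∀ {a b c : ℕ}, okPerm 240 8 a = true → okPerm 240 8 b = true → mulP 240 8 a b = c →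
      decodeP 240 8 a * decodeP 240 8 b = decodeP 240 8 c := fun ha hb e => by
    rw [← decodeP_mulP ha hb, e]
  have idx : ∀ c ∈ aListC, ∃ i < 32, aListC.getD i 0 = c := fun c hc => by
    obtain ⟨i, hi, rfl⟩ := List.getElem_of_mem hc
    exact ⟨i, hlen ▸ hi, List.getD_eq_getElem _ _ hi⟩
  have hok : ∀ c ∈ aListC, okPerm 240 8 c = true := fun c hc => by
    obtain ⟨i, hi, rfl⟩ := idx c hc
    exact (hall i hi).1.1.1.1.1
  have comm : ∀ c ∈ aListC, ∀ d ∈ aListC,
      decodeP 240 8 c * decodeP 240 8 d = decodeP 240 8 d * decodeP 240 8 c := by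
    intro c hc d hd
    obtain ⟨i, hi, rfl⟩ := idx c hc
    obtain ⟨j, hj, rfl⟩ := idx d hd
    rcases Nat.lt_trichotomy i j with h | h | h
    · have e := ((hall j hj).2 i h).2
      rw [← decodeP_mulP (hok _ hc) (hok _ hd), ← e, decodeP_mulP (hok _ hd) (hok _ hc)]
    · subst h; rfl
    · have e := ((hall i hi).2 j h).2
      rw [← decodeP_mulP (hok _ hc) (hok _ hd), e, decodeP_mulP (hok _ hd) (hok _ hc)]
  refine ⟨?_, ⟨c0, hc0, by rw [e0]; exact h0⟩, ?_, ?_, (dec hx hx hx2).trans h0, (dec hy hy hy2).trans h0,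
    ?_, dec hq hq hq2⟩
  · have hinj : Set.InjOn (decodeP 240 8) {c | c ∈ aListC} := by
      intro c hc d hd e
      by_contra hne
      obtain ⟨i, hi, rfl⟩ := idx c hc
      obtain ⟨j, hj, rfl⟩ := idx d hd
      have key : ∀ a b, a < 32 → b < a → decodeP 240 8 (aListC.getD a 0) ≠ decodeP 240 8 (aListC.getD b 0) := by
        intro a b ha hb e'
        exact absurd e' (code_ne ha hb)
      rcases Nat.lt_trichotomy i j with h | h | h
      · exact key j i hj h e.symm
      · exact hne (by rw [h])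
      · exact key i j hi h e
    rw [aSet, hinj.ncard_image]
    have hnd : aListC.Nodup := by decide +kernel
    rw [show {c | c ∈ aListC} = (aListC.toFinset : Set ℕ) by ext; simp, Set.ncard_coe_finset,
      List.toFinset_card_of_nodup hnd, hlen]
  · rintro _ ⟨c, hc, rfl⟩
    obtain ⟨i, hi, rfl⟩ := idx c hc
    obtain ⟨⟨⟨⟨⟨ho, h2⟩, h3⟩, h4⟩, h5⟩, -⟩ := hall i hi
    refine ⟨(dec ho ho h2).trans h0, ?_, ?_, ?_⟩
    · show _ * decodeP 240 8 x5C = decodeP 240 8 x5C * _
      rw [← decodeP_mulP ho hx, h3, decodeP_mulP hx ho]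
    · show _ * decodeP 240 8 y12C = decodeP 240 8 y12C * _
      rw [← decodeP_mulP ho hy, h4, decodeP_mulP hy ho]
    · show _ * decodeP 240 8 qsC = decodeP 240 8 qsC * _
      rw [← decodeP_mulP ho hq, h5, decodeP_mulP hq ho]
  · rintro _ ⟨c, hc, rfl⟩ _ ⟨d, hd, rfl⟩
    exact comm c hc d hd
  · show decodeP 240 8 x5C * decodeP 240 8 y12C * (decodeP 240 8 x5C * decodeP 240 8 y12C) = _
    rw [← decodeP_mulP hx hy]
    exact dec (okPerm_mulP hx hy) (okPerm_mulP hx hy) hxy

end Cfsg.Agent.Lib.StdO8
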