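import Cfsg.Agent.Lib.StdO8.Frame
import Mathlib.Data.List.Permutation

/-!
# Combinatorics of the masks: a count separating the central element and the nine points
-/

set_option autoImplicit false
set_option Elab.async false
set_option maxRecDepth 20000

namespace Cfsg.Agent.Lib.StdO8

open Cfsg.Agent.Lib.Computation

/-- The fourteen planes. -/
def planes : List ℕ := [15, 51, 60, 85, 90, 102, 105, 150, 153, 165, 170, 195, 204, 240]

/-- The number of roots fixed by a code. -/
def fixCount (c : ℕ) : ℕ := ((List.range 240).filter fun x => Nat.beq (getW 8 c x) x).length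

theorem planes_iff : ((List.range 256).all fun m => Nat.beq (fixCount (flC m)) 24 == planes.contains m) = true := by
  decide +kernel

/-- The permutations of the eight points by the two generators. -/
def gPerm (g : Fin 2) : Fin 9 → Fin 9 := fun i =>
  if i.val = 8 then i else Fin.ofNat 9 ((aglP.getD g.val []).getD i.val 0)

/-- Composite of a word. -/
def wordPerm : List (Fin 2) → Fin 9 → Fin 9
  | [] => id
  | g :: l => gPerm g ∘ wordPerm l

/-- Two generators of the stabiliser of a point. -/
def stabWords : List (List (Fin 2)) :=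
  [[0, 1, 0, 0, 1, 1, 1, 0, 1, 1], [1, 1, 0, 1, 0, 1, 0, 1, 1, 1, 0, 1, 1]]

/-- The translation taking zero to a point. -/
def transWord : ℕ → List (Fin 2)
  | 1 => [1, 1, 0, 1, 0, 1, 0, 0, 1, 0, 1, 0]
  | 2 => [1, 1, 1, 0, 1, 0, 1, 0, 1, 1]
  | 3 => [0, 1, 0, 1, 0, 1]
  | 4 => [0, 0, 1, 0, 1, 0, 1, 0, 0]
  | 5 => [1, 0, 1, 1, 0, 1, 0, 1, 0, 0, 1, 0]
  | 6 => [1, 0, 1, 0, 1, 0]
  | 7 => [1, 1, 0, 1, 0, 1, 0, 1, 1, 1]
  | _ => []

theorem transWord_zero : ∀ i : Fin 8, wordPerm (transWord i.val) 0 = Fin.castSucc i ∧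
    wordPerm (transWord i.val) (Fin.castSucc i) = 0 := by decide +kernel

/-- The image of a set of points as a mask. -/
def maskImage (f : Fin 9 → Fin 9) (m : ℕ) : ℕ :=
  (List.range 8).foldl (fun acc k => if m.testBit k then acc ||| 2 ^ (f (Fin.ofNat 9 k)).val else acc) 0

/-- The planes go to planes. -/
def keepsPlanes (f : Fin 9 → Fin 9) : Bool := planes.all fun m => planes.contains (maskImage f m)

/-- A map given by a list. -/
def ofList (l : List ℕ) (i : Fin 9) : Fin 9 := Fin.ofNat 9 (l.getD i.val 0)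

/-- The inverse of a map given by a list. -/
def invList (l : List ℕ) (i : Fin 9) : Fin 9 := Fin.ofNat 9 (l.idxOf i.val)

/-- The words fixing the last point which cannot all keep the planes. -/
def tests (l : List ℕ) : List (Fin 9 → Fin 9) :=
  stabWords.map (fun w => ofList l ∘ wordPerm w ∘ invList l) ++
    [ofList l ∘ wordPerm (transWord (ofList l 1).val) ∘ ofList l ∘ wordPerm (transWord 1) ∘ ofList l]

theorem tests_fail : ((List.permutations' (List.range' 1 7)).all fun r =>
    (tests (8 :: r ++ [0])).any fun f => Nat.beq (f 8).val 8 && !keepsPlanes f) = true := by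
  decide +kernel

/-- A group on nine points containing the affine group as a stabiliser of a point cannot move it. -/
theorem nine_false (X : Subgroup (Equiv.Perm (Fin 9)))
    (hgen : ∀ g : Fin 2, ∃ π ∈ X, ∀ i, π i = gPerm g i)
    (hkeep : ∀ π ∈ X, π 8 = 8 → keepsPlanes (fun i => π i) = true) {π₀ : Equiv.Perm (Fin 9)}
    (hπ : π₀ ∈ X) (hmove : π₀ 8 ≠ 8) : False := by
  have hword : ∀ w, ∃ π ∈ X, ∀ i, π i = wordPerm w i := by
    intro w
    induction w with
    | nil => exact ⟨1, X.one_mem, fun _ => rfl⟩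
    | cons g w ih =>
      obtain ⟨π, hπ, h⟩ := ih
      obtain ⟨ρ, hρ, h'⟩ := hgen g
      exact ⟨ρ * π, X.mul_mem hρ hπ, fun i => by rw [Equiv.Perm.mul_apply, h, h']; rfl⟩
  have h8 : ∀ w, wordPerm w 8 = 8 := by
    intro w
    induction w with
    | nil => rfl
    | cons g w ih => simp only [wordPerm, Function.comp_apply, ih]; rfl
  have small : ∀ i : Fin 9, i ≠ 8 → ∃ j : Fin 8, Fin.castSucc j = i := fun i hi =>
    ⟨⟨i.val, by have := i.isLt; have : i.val ≠ 8 := fun e => hi (Fin.ext e); omega⟩, rfl⟩
  obtain ⟨j, hj⟩ := small _ hmove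
  obtain ⟨a, ha, hat⟩ := hword (transWord j.val)
  set π₁ := a * π₀ with hπ₁
  have h1 : π₁ 8 = 0 := by
    rw [hπ₁, Equiv.Perm.mul_apply, ← hj, hat, (transWord_zero j).2]
  have hπ1 : π₁ ∈ X := X.mul_mem ha hπ
  obtain ⟨k, hk⟩ := small (π₁⁻¹ 8) (fun e => by
    rw [Equiv.Perm.inv_eq_iff_eq, h1] at e
    exact absurd e (by decide))
  obtain ⟨b, hb, hbt⟩ := hword (transWord k.val)
  set π := π₁ * b with hπd
  have hπm : π ∈ X := X.mul_mem hπ1 hb
  have e8 : π 8 = 0 := by rw [hπd, Equiv.Perm.mul_apply, hbt, h8, h1]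
  have e0 : π 0 = 8 := by
    rw [hπd, Equiv.Perm.mul_apply, hbt, (transWord_zero k).1, hk, Equiv.Perm.coe_inv, Equiv.apply_symm_apply]
  set l := (List.finRange 9).map (fun i => (π i).val) with hl
  set r := [(π 1).val, (π 2).val, (π 3).val, (π 4).val, (π 5).val, (π 6).val, (π 7).val] with hr
  have hlr : l = 8 :: r ++ [0] := by
    simp [hl, hr, List.finRange_succ, e0, e8]
  have hperm : r.Perm (List.range' 1 7) := by
    have hnd : l.Nodup := (List.nodup_finRange 9).map fun _ _ e => π.injective (Fin.ext e)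
    rw [hlr] at hnd
    simp only [List.cons_append, List.nodup_cons, List.nodup_append, List.mem_append,
      List.mem_singleton, not_or] at hnd
    obtain ⟨⟨h8r, -⟩, hr0, -, hd⟩ := hnd
    refine (List.perm_ext_iff_of_nodup hr0 List.nodup_range').2 fun x => ?_
    have hsub : ∀ y ∈ r, y ∈ List.range' 1 7 := by
      intro y hy
      have hy9 : y < 9 := by
        simp only [hr, List.mem_cons, List.not_mem_nil, or_false] at hy
        rcases hy with e | e | e | e | e | e | e <;> (rw [e]; exact Fin.isLt _)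
      have hy8 : y ≠ 8 := fun e => h8r (e ▸ hy)
      have hy0 : y ≠ 0 := hd y hy 0 rfl
      simp only [List.mem_range'_1]
      omega
    constructor
    · exact hsub x
    · intro hx
      have h1 : r.toFinset = (List.range' 1 7).toFinset := by
        refine Finset.eq_of_subset_of_card_le (fun y hy => by
          rw [List.mem_toFinset] at hy ⊢; exact hsub y hy) ?_
        rw [List.toFinset_card_of_nodup hr0, List.toFinset_card_of_nodup List.nodup_range']
        simp [hr]
      have := List.mem_toFinset.2 hx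
      rw [← h1, List.mem_toFinset] at this
      exact this
  have hfail := List.all_eq_true.1 tests_fail r (List.mem_permutations'.2 hperm)
  rw [← hlr] at hfail
  obtain ⟨f, hf, hbad⟩ := List.any_eq_true.1 hfail
  simp only [Bool.and_eq_true, Nat.beq_eq, Bool.not_eq_true'] at hbad
  have of : ∀ i, ofList l i = π i := by
    intro i
    simp only [ofList, hl]
    fin_cases i <;> simp [List.finRange_succ]
  have invl : ∀ i, invList l i = π⁻¹ i := by
    intro i
    rw [Equiv.Perm.eq_inv_iff_eq, ← of, ofList, invList]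
    have hmem : i.val ∈ l := by
      rw [hl, List.mem_map]
      exact ⟨π⁻¹ i, List.mem_finRange _, by rw [Equiv.Perm.coe_inv, Equiv.apply_symm_apply]⟩
    have hlt := List.idxOf_lt_length_iff.2 hmem
    have hlen : l.length = 9 := by simp [hl]
    rw [Fin.val_ofNat, Nat.mod_eq_of_lt (show _ < 9 by omega), List.getD_eq_getElem _ _ hlt, List.getElem_idxOf]
    exact Fin.ext (Nat.mod_eq_of_lt i.isLt)
  have key : ∃ ρ ∈ X, ∀ i, f i = ρ i := by
    simp only [tests, List.mem_append, List.mem_map, List.mem_singleton] at hf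
    rcases hf with ⟨w, -, rfl⟩ | rfl
    · obtain ⟨c, hc, hct⟩ := hword w
      exact ⟨π * c * π⁻¹, X.mul_mem (X.mul_mem hπm hc) (X.inv_mem hπm), fun i => by
        simp [of, invl, hct]⟩
    · obtain ⟨c, hc, hct⟩ := hword (transWord (ofList l 1).val)
      obtain ⟨d, hd, hdt⟩ := hword (transWord 1)
      exact ⟨π * c * π * d * π, X.mul_mem (X.mul_mem (X.mul_mem (X.mul_mem hπm hc) hπm) hd) hπm,
        fun i => by simp [of, hct, hdt]⟩
  obtain ⟨ρ, hρ, hfρ⟩ := key
  have h9 : ρ 8 = 8 := by rw [← hfρ]; exact Fin.ext hbad.1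
  rw [funext hfρ] at hbad
  rw [hkeep ρ hρ h9] at hbad
  exact absurd hbad.2 (by decide)

/-! ### Counting -/

/-- The weight of a mask. -/
def wt (m : ℕ) : ℕ := ((List.range 8).filter fun k => m.testBit k).length

/-- The union of odd orbits selected by four bits, with the all-one mask. -/
def selSet (sel : ℕ) : List ℕ :=
  255 :: (List.range 256).filter fun m =>
    (sel.testBit 0 && Nat.beq (wt m) 1) || (sel.testBit 1 && Nat.beq (wt m) 7) ||
      (sel.testBit 2 && Nat.beq (wt m) 3) || (sel.testBit 3 && Nat.beq (wt m) 5)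

/-- The set as bits. -/
def selBits (l : List ℕ) : ℕ := l.foldl (fun acc m => acc ||| 2 ^ m) 0

/-- The number of pairs summing with a mask to a member. -/
def quad (l : List ℕ) (x : ℕ) : ℕ :=
  forceNat (selBits l) fun b =>
    l.foldl (fun acc a => l.foldl (fun acc c => if b.testBit (x ^^^ a ^^^ c) then acc + 1 else acc) acc) 0

theorem quad_separates : ((List.range 16).all fun sel => Nat.ble sel 2 ||
    !Nat.beq (quad (selSet sel) ((selSet sel).getD 1 0)) (quad (selSet sel) 255)) = true := by
  decide +kernel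

theorem orbit_weights : ([(1, 1), (127, 7), (7, 3), (31, 5), (3, 2), (252, 6)].all fun rw =>
    (List.range 256).all fun m => !(Nat.beq (wt m) rw.2) || (orbitBits rw.1).testBit m) = true := by
  decide +kernel

end Cfsg.Agent.Lib.StdO8
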