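import Cfsg.Agent.Lib.StdO8.ModelData
import Mathlib.LinearAlgebra.Matrix.NonsingularInverse
import Mathlib.LinearAlgebra.Matrix.Trace
import Mathlib.Algebra.BigOperators.Field

/-!
# The Weyl group of type `E8` as permutations of the roots with its matrices in a frame of eight roots
-/

set_option autoImplicit false
set_option maxRecDepth 20000

namespace Cfsg.Agent.Lib.StdO8

open Matrix Cfsg.Agent.Lib.Computation

/-- Permutations of the roots. -/
abbrev Perm240 : Type := Equiv.Perm (Fin 240)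

/-- Twice a coordinate of a root. -/
def P (i : Fin 240) (k : Fin 8) : ℤ := (getW 4 (rows.getD k.val 0) i.val : ℤ) - 2

/-- The roots of the frame. -/
def fpt (k : Fin 8) : Fin 240 := Fin.ofNat 240 (frame.getD k.val 0)

theorem P_fpt : ∀ l k : Fin 8, P (fpt l) k = if k = l then 2 else 0 := by decide +kernel

/-- The key of a root. -/
def pkeyRoot (i : Fin 240) : ℕ :=
  (List.range 8).foldl (fun acc k => acc * 8 + getW 4 (rows.getD k 0) i.val) 0

theorem pkeyRoot_nodup : ((List.range 240).all fun i => (List.range i).all fun j =>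
    !Nat.beq (pkeyRoot (Fin.ofNat 240 i)) (pkeyRoot (Fin.ofNat 240 j))) = true := by decide +kernel

theorem P_injective : Function.Injective P := by
  intro i j h
  have hkey : pkeyRoot i = pkeyRoot j := by
    unfold pkeyRoot
    refine List.foldl_ext _ _ _ ?_
    intro acc k hk
    have hk8 := List.mem_range.1 hk
    have := congrFun h ⟨k, hk8⟩
    simp only [P] at this
    rw [show getW 4 (rows.getD k 0) i.val = getW 4 (rows.getD k 0) j.val by omega]
  by_contra hne
  have key : ∀ a b : Fin 240, b.val < a.val → pkeyRoot a ≠ pkeyRoot b := by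
    intro a b hab
    have h1 := List.all_eq_true.1 pkeyRoot_nodup a.val (List.mem_range.2 a.isLt)
    have h2 := List.all_eq_true.1 h1 b.val (List.mem_range.2 hab)
    intro e
    rw [show Fin.ofNat 240 a.val = a from Fin.ext (Nat.mod_eq_of_lt a.isLt),
      show Fin.ofNat 240 b.val = b from Fin.ext (Nat.mod_eq_of_lt b.isLt), e] at h2
    simp at h2
  rcases Nat.lt_trichotomy i.val j.val with h' | h' | h'
  · exact key j i h' hkey.symm
  · exact hne (Fin.ext h')
  · exact key i j h' hkey

/-- The matrix of a permutation. -/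
def M (σ : Perm240) : Matrix (Fin 8) (Fin 8) ℚ := Matrix.of fun k l => (P (σ (fpt l)) k : ℚ) / 2

/-- The permutation is induced by an orthogonal matrix. -/
def Lin (σ : Perm240) : Prop :=
  (∀ j k, (P (σ j) k : ℚ) = ∑ l, M σ k l * (P j l : ℚ)) ∧ (M σ)ᵀ * M σ = 1

theorem M_one : M 1 = 1 := by
  ext k l
  simp only [M, Equiv.Perm.coe_one, id_eq, of_apply, P_fpt, one_apply]
  split_ifs <;> norm_num

theorem M_mul {σ : Perm240} (hσ : Lin σ) (τ : Perm240) : M (σ * τ) = M σ * M τ := by
  ext k l
  rw [mul_apply]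
  simp only [M, of_apply, Equiv.Perm.coe_mul, Function.comp_apply]
  have h := hσ.1 (τ (fpt l)) k
  simp only [M, of_apply] at h
  rw [h, Finset.sum_div]
  exact Finset.sum_congr rfl fun a _ => by ring

theorem lin_one : Lin 1 := by
  refine ⟨fun j k => ?_, by rw [M_one, transpose_one, mul_one]⟩
  rw [M_one]
  simp [one_apply]

theorem lin_mul {σ τ : Perm240} (hσ : Lin σ) (hτ : Lin τ) : Lin (σ * τ) := by
  refine ⟨fun j k => ?_, ?_⟩
  · rw [M_mul hσ, Equiv.Perm.coe_mul, Function.comp_apply, hσ.1 (τ j) k]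
    simp only [mul_apply, Finset.sum_mul, hτ.1 j, Finset.mul_sum]
    rw [Finset.sum_comm]
    exact Finset.sum_congr rfl fun a _ => Finset.sum_congr rfl fun b _ => by ring
  · rw [M_mul hσ, transpose_mul, mul_assoc, ← mul_assoc (M σ)ᵀ, hσ.2, one_mul, hτ.2]

/-- All linear permutations. -/
def linGroup : Subgroup Perm240 where
  carrier := {σ | Lin σ}
  one_mem' := lin_one
  mul_mem' := lin_mul
  inv_mem' {σ} h := by
    have hp : ∀ n : ℕ, Lin (σ ^ n) := fun n => by
      induction n with
      | zero => rw [pow_zero]; exact lin_one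
      | succ n ih => rw [pow_succ]; exact lin_mul ih h
    have e : σ⁻¹ = σ ^ (orderOf σ - 1) := by
      rw [inv_eq_iff_mul_eq_one, ← pow_succ', Nat.sub_add_cancel (orderOf_pos σ), pow_orderOf_eq_one]
    show Lin σ⁻¹
    rw [e]
    exact hp _

/-- A coordinate of the image of a root under a code. -/
def PC (c i : ℕ) (k : Fin 8) : ℤ := (getW 4 (rows.getD k.val 0) (getW 8 c i) : ℤ) - 2

/-- The code is that of a linear permutation. -/
def linOk (c : ℕ) : Bool :=
  okPerm 240 8 c &&
    decide (∀ j : Fin 240, ∀ k : Fin 8, 2 * PC c j.val k = ∑ l, PC c (fpt l).val k * P j l) &&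
    decide (∀ l m : Fin 8, ∑ k, PC c (fpt l).val k * PC c (fpt m).val k = if l = m then 4 else 0)

theorem PC_eq {c : ℕ} (hc : okPerm 240 8 c = true) (j : Fin 240) (k : Fin 8) :
    P (decodeP 240 8 c j) k = PC c j.val k := by rw [P, PC, decodeP_apply hc]

theorem lin_of_ok {c : ℕ} (h : linOk c = true) : Lin (decodeP 240 8 c) := by
  simp only [linOk, Bool.and_eq_true, decide_eq_true_eq] at h
  obtain ⟨⟨hok, hl⟩, ho⟩ := h
  refine ⟨fun j k => ?_, ?_⟩
  · have h2 : (2 : ℚ) * (PC c j.val k : ℚ) = ∑ l, (PC c (fpt l).val k : ℚ) * (P j l : ℚ) := by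
      exact_mod_cast hl j k
    simp only [M, of_apply, PC_eq hok]
    rw [show (PC c j.val k : ℚ) = (∑ l, (PC c (fpt l).val k : ℚ) * (P j l : ℚ)) / 2 by linarith,
      Finset.sum_div]
    exact Finset.sum_congr rfl fun l _ => by ring
  · ext l m
    rw [mul_apply, one_apply]
    simp only [transpose_apply, M, of_apply, PC_eq hok]
    have h2 : ∑ k, (PC c (fpt l).val k : ℚ) * (PC c (fpt m).val k : ℚ) = if l = m then 4 else 0 := by
      exact_mod_cast ho l m
    rw [show (∑ k, (PC c (fpt l).val k : ℚ) / 2 * ((PC c (fpt m).val k : ℚ) / 2)) =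
      (∑ k, (PC c (fpt l).val k : ℚ) * (PC c (fpt m).val k : ℚ)) / 4 by
        rw [Finset.sum_div]; exact Finset.sum_congr rfl fun k _ => by ring, h2]
    split_ifs <;> norm_num

theorem we_lin : we_gens.all linOk = true := by decide +kernel

/-- The Weyl group. -/
noncomputable def WE : Subgroup Perm240 := (permRep 240 8 (by decide)).grp we_chain

theorem we_ok : (permRep 240 8 (by decide)).checkChain we_chain = true :=
  (permRep 240 8 (by decide)).checkChain_of_checkClosure we_check

theorem we_order : (permRep 240 8 (by decide)).order we_chain = 696729600 := by decide +kernel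

theorem WE_eq : WE = Subgroup.closure (decodeP 240 8 '' {s | s ∈ we_gens}) :=
  ((permRep 240 8 (by decide)).closure_eq_grp we_check).symm

theorem card_WE : Nat.card WE = 696729600 :=
  ((permRep 240 8 (by decide)).card_grp we_ok).trans we_order

theorem WE_le : WE ≤ linGroup := by
  rw [WE_eq, Subgroup.closure_le]
  rintro _ ⟨c, hc, rfl⟩
  exact lin_of_ok (List.all_eq_true.1 we_lin c hc)

theorem lin_of_mem {σ : Perm240} (h : σ ∈ WE) : Lin σ := WE_le h

/-- A code of a member. -/
noncomputable def inWE (c : ℕ) : Bool := okPerm 240 8 c && (permRep 240 8 (by decide)).sift we_chain c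

theorem mem_WE {c : ℕ} (h : inWE c = true) : decodeP 240 8 c ∈ WE := by
  simp only [inWE, Bool.and_eq_true] at h
  exact (permRep 240 8 (by decide)).mem_grp_of_sift we_ok h.1 h.2

attribute [irreducible] WE

theorem M_mul' {σ τ : Perm240} (hσ : σ ∈ WE) : M (σ * τ) = M σ * M τ := M_mul (lin_of_mem hσ) τ

/-- The matrix determines the permutation. -/
theorem M_injective {σ τ : Perm240} (hσ : Lin σ) (hτ : Lin τ) (h : M σ = M τ) : σ = τ := by
  refine Equiv.ext fun j => P_injective (funext fun k => ?_)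
  have : (P (σ j) k : ℚ) = P (τ j) k := by rw [hσ.1 j k, hτ.1 j k, h]
  exact_mod_cast this

/-- The representation. -/
noncomputable def rho : WE →* Matrix (Fin 8) (Fin 8) ℚ where
  toFun w := M w.1
  map_one' := M_one
  map_mul' v _ := M_mul' v.2

theorem rho_apply (w : WE) : rho w = M w.1 := rfl

theorem rho_injective : Function.Injective rho := fun v w h =>
  Subtype.ext (M_injective (lin_of_mem v.2) (lin_of_mem w.2) h)

/-- The code of a product of reflections in the frame. -/
def flC (m : ℕ) : ℕ :=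
  (List.range 8).foldl (fun acc k => if m.testBit k then mulP 240 8 acc (refls.getD k 0) else acc)
    (packW 8 (fun x => x) 240)

/-- A product of reflections in the frame. -/
noncomputable def fl (m : ℕ) : Perm240 := decodeP 240 8 (flC m)

/-- Its diagonal. -/
def sgn (m : ℕ) (k : Fin 8) : ℤ := if m.testBit k.val then -1 else 1

theorem fl_data : ∀ m : Fin 256, inWE (flC m.val) = true ∧
    ∀ l k : Fin 8, PC (flC m.val) (fpt l).val k = if k = l then 2 * sgn m.val k else 0 := by
  decide +kernel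

theorem fl_mem {m : ℕ} (hm : m < 256) : fl m ∈ WE := mem_WE (fl_data ⟨m, hm⟩).1

theorem M_fl {m : ℕ} (hm : m < 256) : M (fl m) = Matrix.diagonal fun k => (sgn m k : ℚ) := by
  obtain ⟨h1, h2⟩ := fl_data ⟨m, hm⟩
  simp only [inWE, Bool.and_eq_true] at h1
  ext k l
  simp only [M, of_apply, fl, PC_eq h1.1, h2 l k, diagonal_apply]
  by_cases h : k = l
  · rw [if_pos h, if_pos h]; push_cast; ring
  · rw [if_neg h, if_neg h]; norm_num

theorem sgn_xor (a b : ℕ) (k : Fin 8) : sgn (a ^^^ b) k = sgn a k * sgn b k := by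
  simp only [sgn, Nat.testBit_xor]
  cases a.testBit k.val <;> cases b.testBit k.val <;> norm_num

theorem fl_mul {a b : ℕ} (ha : a < 256) (hb : b < 256) : fl a * fl b = fl (a ^^^ b) := by
  have hab : a ^^^ b < 256 := Nat.xor_lt_two_pow (n := 8) ha hb
  refine M_injective (lin_mul (lin_of_mem (fl_mem ha)) (lin_of_mem (fl_mem hb))) (lin_of_mem (fl_mem hab)) ?_
  rw [M_mul' (fl_mem ha), M_fl ha, M_fl hb, M_fl hab, diagonal_mul_diagonal]
  refine congrArg _ (funext fun k => ?_)
  rw [sgn_xor]; push_cast; rfl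

theorem sgn_inj : ∀ a b : Fin 256, (∀ k, sgn a.val k = sgn b.val k) → a = b := by decide +kernel

theorem fl_inj {a b : ℕ} (ha : a < 256) (hb : b < 256) (h : fl a = fl b) : a = b := by
  have e : M (fl a) = M (fl b) := by rw [h]
  rw [M_fl ha, M_fl hb] at e
  exact congrArg Fin.val (sgn_inj ⟨a, ha⟩ ⟨b, hb⟩ fun k => by
    exact_mod_cast congrFun (diagonal_injective e) k)

theorem fl_zero : fl 0 = 1 := by
  refine M_injective (lin_of_mem (fl_mem (by norm_num))) lin_one ?_
  rw [M_fl (by norm_num), M_one, ← diagonal_one]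
  simp [sgn]

theorem fl_sq {a : ℕ} (ha : a < 256) : fl a * fl a = 1 := by
  rw [fl_mul ha ha, Nat.xor_self, fl_zero]

/-- The negation of all roots. -/
noncomputable def nn : Perm240 := fl 255

theorem nn_mem : nn ∈ WE := fl_mem (by norm_num)

theorem nn_sq : nn * nn = 1 := fl_sq (by norm_num)

theorem M_nn : M nn = -1 := by
  rw [nn, M_fl (by norm_num), ← diagonal_one, diagonal_neg]
  refine congrArg _ (funext fun k => ?_)
  have : sgn 255 k = -1 := by revert k; decide
  simp [this]

theorem nn_central {σ : Perm240} (h : σ ∈ WE) : nn * σ = σ * nn := by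
  refine M_injective (lin_mul (lin_of_mem nn_mem) (lin_of_mem h)) (lin_mul (lin_of_mem h) (lin_of_mem nn_mem)) ?_
  rw [M_mul' nn_mem, M_mul' h, M_nn, neg_one_mul, mul_neg_one]

theorem nn_ne_one : nn ≠ 1 := fun h => by
  have := fl_inj (a := 255) (b := 0) (by norm_num) (by norm_num) (h.trans fl_zero.symm)
  omega

/-- The determinant. -/
noncomputable def dt : WE →* ℚ := (Matrix.detMonoidHom).comp rho

theorem dt_apply (w : WE) : dt w = (M w.1).det := by
  rw [dt, MonoidHom.comp_apply, rho_apply, Matrix.coe_detMonoidHom]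

theorem det_sq {σ : Perm240} (h : Lin σ) : (M σ).det * (M σ).det = 1 := by
  have := congrArg Matrix.det h.2
  rwa [det_mul, det_transpose, det_one] at this

/-- The rotations. -/
noncomputable def W1 : Subgroup Perm240 := dt.ker.map WE.subtype

theorem mem_W1 {σ : Perm240} : σ ∈ W1 ↔ σ ∈ WE ∧ (M σ).det = 1 := by
  constructor
  · rintro ⟨w, hw, rfl⟩
    exact ⟨w.2, (dt_apply w).symm.trans (MonoidHom.mem_ker.1 hw)⟩
  · rintro ⟨h, hd⟩
    exact ⟨⟨σ, h⟩, MonoidHom.mem_ker.2 ((dt_apply _).trans hd), rfl⟩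

theorem W1_le : W1 ≤ WE := fun _ h => (mem_W1.1 h).1

theorem det_fl_one : (M (fl 1)).det = -1 := by
  rw [M_fl (by norm_num), det_diagonal]
  exact_mod_cast (show ∏ k : Fin 8, sgn 1 k = -1 by decide)

theorem dichotomy {σ : Perm240} (h : σ ∈ WE) : σ ∈ W1 ∨ σ * fl 1 ∈ W1 := by
  rcases mul_self_eq_one_iff.1 (det_sq (lin_of_mem h)) with e | e
  · exact Or.inl (mem_W1.2 ⟨h, e⟩)
  · refine Or.inr (mem_W1.2 ⟨mul_mem h (fl_mem (by norm_num)), ?_⟩)
    rw [M_mul' h, det_mul, e, det_fl_one]
    norm_num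

theorem conj_mem_W1 {u σ : Perm240} (hu : u ∈ WE) (h : σ ∈ W1) : u * σ * u⁻¹ ∈ W1 := by
  obtain ⟨hs, hd⟩ := mem_W1.1 h
  refine mem_W1.2 ⟨mul_mem (mul_mem hu hs) (inv_mem hu), ?_⟩
  have e : (M u).det * (M u⁻¹).det = 1 := by rw [← det_mul, ← M_mul' hu, mul_inv_cancel, M_one, det_one]
  rw [M_mul' (mul_mem hu hs), M_mul' hu, det_mul, det_mul, hd, mul_one, e]

theorem card_W1 : Nat.card W1 = 348364800 := by
  rw [W1, Subgroup.card_map_of_injective WE.subtype_injective]
  have h2 : dt.ker.index = 2 := by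
    rw [Subgroup.index_eq_two_iff_exists_notMem_and]
    refine ⟨⟨fl 1, fl_mem (by norm_num)⟩, ?_, fun w => ?_⟩
    · rw [MonoidHom.mem_ker, dt_apply, det_fl_one]; norm_num
    · rcases dichotomy w.2 with h | h
      · exact Or.inr (by rw [MonoidHom.mem_ker, dt_apply]; exact (mem_W1.1 h).2)
      · exact Or.inl (by rw [MonoidHom.mem_ker, dt_apply]; exact (mem_W1.1 h).2)
  have h := dt.ker.index_mul_card
  rw [card_WE, h2] at h
  omega

theorem nn_mem_W1 : nn ∈ W1 := mem_W1.2 ⟨nn_mem, by rw [M_nn, det_neg, det_one]; norm_num⟩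

end Cfsg.Agent.Lib.StdO8
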