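import Cfsg.Agent.Lib.StdO8.SylowCheck
import Cfsg.Agent.Lib.StdO8.LinAlg
import Mathlib.GroupTheory.Sylow

/-!
# Involutions and elementary subgroups of maximal rank move into the frame group
-/

set_option autoImplicit false
set_option maxRecDepth 20000

namespace Cfsg.Agent.Lib.StdO8

open Matrix Cfsg.Agent.Lib.Computation

theorem syl_ok : (permRep 240 8 (by decide)).checkChain syl_chain = true :=
  (permRep 240 8 (by decide)).checkChain_of_checkClosure syl_check

/-- The Sylow two-subgroup. -/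
noncomputable def Syl : Subgroup Perm240 := (permRep 240 8 (by decide)).grp syl_chain

theorem syl_order : (permRep 240 8 (by decide)).order syl_chain = 2 ^ 14 := by decide +kernel

theorem card_Syl : Nat.card Syl = 2 ^ 14 :=
  ((permRep 240 8 (by decide)).card_grp syl_ok).trans syl_order

theorem syl_in : syl_gens.all inWE = true := by decide +kernel

theorem Syl_le : Syl ≤ WE := by
  rw [Syl, ← (permRep 240 8 (by decide)).closure_eq_grp syl_check, Subgroup.closure_le]
  rintro _ ⟨c, hc, rfl⟩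
  exact mem_WE (List.all_eq_true.1 syl_in c hc)

theorem fl2_sift : (permRep 240 8 (by decide)).sift syl_chain (flC 2) = true := by decide +kernel

theorem flC_ok {m : ℕ} (hm : m < 256) : okPerm 240 8 (flC m) = true := by
  have h := (fl_data ⟨m, hm⟩).1
  simp only [inWE, Bool.and_eq_true] at h
  exact h.1

theorem fl2_mem : fl 2 ∈ Syl := by
  rw [fl, Syl]
  exact (permRep 240 8 (by decide)).mem_grp_of_sift syl_ok (flC_ok (by norm_num)) fl2_sift

theorem one_ok : okPerm 240 8 (packW 8 (fun x => x) 240) = true := by decide +kernel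

theorem decode_one : decodeP 240 8 (packW 8 (fun x => x) 240) = 1 :=
  Equiv.ext fun i => Fin.ext (by
    rw [decodeP_apply one_ok, getW_packW (fun x hx => lt_trans hx (by norm_num)) i.isLt]
    rfl)

theorem tailElems_spec : ∀ {c : List (Level ℕ)}, (permRep 240 8 (by decide)).checkChain c = true →
    ∀ {g : Perm240}, g ∈ (permRep 240 8 (by decide)).grp c →
      ∃ x ∈ tailElems c, okPerm 240 8 x = true ∧ decodeP 240 8 x = g := by
  intro c
  induction c with
  | nil =>
    intro _ g hg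
    rw [(permRep 240 8 (by decide)).grp_nil, Subgroup.mem_bot] at hg
    exact ⟨packW 8 (fun x => x) 240, List.mem_singleton_self _, one_ok, decode_one.trans hg.symm⟩
  | cons L c ih =>
    intro hc g hg
    obtain ⟨e, he, k, hk, rfl⟩ := (permRep 240 8 (by decide)).decomp hc hg
    obtain ⟨x, hx, hxo, rfl⟩ := ih ((permRep 240 8 (by decide)).checkChain_tail hc) hk
    have heo : okPerm 240 8 e.fwd = true := ((permRep 240 8 (by decide)).levelFacts hc).fwd_ok e he
    exact ⟨_, List.mem_flatMap.2 ⟨e, he, List.mem_map.2 ⟨x, hx, rfl⟩⟩, okPerm_mulP heo hxo,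
      decodeP_mulP heo hxo⟩

theorem sqOne_of {a b : ℕ} (ha : okPerm 240 8 a = true) (hb : okPerm 240 8 b = true)
    (h : decodeP 240 8 (mulP 240 8 a b) * decodeP 240 8 (mulP 240 8 a b) = 1) : sqOne a b = true := by
  simp only [sqOne, forceNat_eq, List.all_eq_true, List.mem_range, Nat.beq_eq]
  intro x hx
  have e := congrArg Fin.val (Equiv.ext_iff.1 h ⟨x, hx⟩)
  rw [decodeP_mulP ha hb] at e
  simpa [decodeP_apply ha, decodeP_apply hb] using e

theorem cosetOk_spec {a tab : ℕ} : ∀ {l : List ℕ} {i : ℕ}, cosetOk a tab l i = true → ∀ b ∈ l,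
    sqOne a b = true → ∃ v, invOk (mulP 240 8 a b) v = true := by
  intro l
  induction l with
  | nil => simp
  | cons x l ih =>
    intro i h b hb hs
    simp only [cosetOk, Bool.and_eq_true, Bool.or_eq_true] at h
    rcases List.mem_cons.1 hb with rfl | hb
    · exact ⟨_, h.1.resolve_left (by rw [hs]; decide)⟩
    · exact ih h.2 b hb hs

theorem syl_cons : ∃ L, syl_chain = L :: syl_chain.tail ∧ sylTop = L.orb.toList := ⟨_, rfl, rfl⟩

/-- The facts on an involution of the Sylow subgroup. -/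
theorem syl_invol {g : Perm240} (hg : g ∈ Syl) (h2 : g * g = 1) :
    ((M g).trace = 6 → ∃ k : Fin 8, g = fl (2 ^ k.val)) ∧
      ∃ u ∈ WE, ∃ m < 256, u * g * u⁻¹ = fl m := by
  obtain ⟨L, hL, hT⟩ := syl_cons
  have hg' : g ∈ (permRep 240 8 (by decide)).grp (L :: syl_chain.tail) := hL ▸ hg
  have hc : (permRep 240 8 (by decide)).checkChain (L :: syl_chain.tail) = true := hL ▸ syl_ok
  obtain ⟨e, he, k, hk, rfl⟩ := (permRep 240 8 (by decide)).decomp hc hg'
  obtain ⟨b, hb, hbo, rfl⟩ := tailElems_spec ((permRep 240 8 (by decide)).checkChain_tail hc) hk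
  have heo : okPerm 240 8 e.fwd = true := ((permRep 240 8 (by decide)).levelFacts hc).fwd_ok e he
  have hcode : (permRep 240 8 (by decide)).val e.fwd * decodeP 240 8 b =
      decodeP 240 8 (mulP 240 8 e.fwd b) := (decodeP_mulP heo hbo).symm
  rw [hcode] at h2 ⊢
  rw [← hT] at he
  obtain ⟨j, hj, rfl⟩ := List.getElem_of_mem he
  have h1 := List.all_eq_true.1 cosets_ok j (List.mem_range.2 hj)
  rw [List.getD_eq_getElem _ _ hj] at h1
  obtain ⟨v, hv⟩ := cosetOk_spec h1 b hb (sqOne_of heo hbo h2)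
  set c := mulP 240 8 sylTop[j].fwd b
  simp only [invOk, Bool.and_eq_true, Bool.or_eq_true, Bool.not_eq_true', List.any_eq_true,
    List.mem_range, Nat.beq_eq, Nat.blt_eq] at hv
  obtain ⟨⟨⟨hok, htr⟩, hlt⟩, heq⟩ := hv
  refine ⟨fun ht => ?_, ?_⟩
  · rcases htr with h | ⟨k, hk, hck⟩
    · exfalso
      refine absurd h (Bool.not_eq_false _ ▸ ?_)
      rw [Nat.beq_eq]
      rw [Matrix.trace] at ht
      simp only [Matrix.diag, M, Matrix.of_apply, PC_eq hok, Fin.sum_univ_eight] at ht
      simp only [List.range_succ, List.range_zero, List.nil_append, List.cons_append, List.foldl_cons,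
        List.foldl_nil]
      have hfp : ∀ k : Fin 8, (fpt k).val = frame.getD k.val 0 := by decide +kernel
      simp only [PC, hfp] at ht
      simp only [show ((2 : Fin 8) : ℕ) = 2 from rfl, show ((3 : Fin 8) : ℕ) = 3 from rfl,
        show ((4 : Fin 8) : ℕ) = 4 from rfl, show ((5 : Fin 8) : ℕ) = 5 from rfl,
        show ((6 : Fin 8) : ℕ) = 6 from rfl, show ((7 : Fin 8) : ℕ) = 7 from rfl,
        Fin.val_zero, Fin.val_one] at ht
      push_cast at ht
      refine Nat.cast_injective (R := ℚ) ?_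
      push_cast
      linarith
    · exact ⟨⟨k, hk⟩, by rw [fl, hck]⟩
  · have hti := List.all_eq_true.1 taus_in _ (List.getElem_mem hlt)
    refine ⟨decodeP 240 8 (taus.getD (v / 256) 0), ?_, v % 256, Nat.mod_lt _ (by norm_num), ?_⟩
    · rw [List.getD_eq_getElem _ _ hlt]; exact mem_WE hti
    · have hto : okPerm 240 8 (taus.getD (v / 256) 0) = true := by
        rw [List.getD_eq_getElem _ _ hlt]
        simp only [inWE, Bool.and_eq_true] at hti
        exact hti.1
      have hfo : okPerm 240 8 (flC (v % 256)) = true := by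
        have h := (fl_data ⟨v % 256, Nat.mod_lt _ (by norm_num)⟩).1
        simp only [inWE, Bool.and_eq_true] at h
        exact h.1
      have e := congrArg (decodeP 240 8) heq
      rw [decodeP_mulP hto hok, decodeP_mulP hfo hto] at e
      rw [mul_inv_eq_iff_eq_mul]
      exact e

/-- Two-subgroups of the Weyl group move into the Sylow subgroup by a rotation. -/
theorem into_syl {Q : Subgroup Perm240} (hQ : Q ≤ WE) (hp : IsPGroup 2 Q) :
    ∃ u ∈ W1, ∀ x ∈ Q, u * x * u⁻¹ ∈ Syl := by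
  have : Fact (Nat.Prime 2) := ⟨Nat.prime_two⟩
  have : Finite WE := Nat.finite_of_card_ne_zero (by rw [card_WE]; norm_num)
  have hcard : Nat.card (Syl.subgroupOf WE) = 2 ^ (Nat.card WE).factorization 2 := by
    rw [Nat.card_congr (Subgroup.subgroupOfEquivOfLe Syl_le).toEquiv, card_Syl, card_WE,
      show (696729600 : ℕ) = 2 ^ 14 * 42525 by norm_num,
      Nat.factorization_mul (by norm_num) (by norm_num), Finsupp.add_apply,
      Nat.Prime.factorization_pow Nat.prime_two, Finsupp.single_eq_same,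
      Nat.factorization_eq_zero_of_not_dvd (by norm_num : ¬ 2 ∣ 42525)]
  let P : Sylow 2 WE := Sylow.ofCard _ hcard
  obtain ⟨P', hP'⟩ := (hp.comap_subtype (K := WE)).exists_le_sylow
  obtain ⟨w, hw⟩ := MulAction.exists_smul_eq WE P' P
  have hmap : ∀ x ∈ Q, (w : Perm240) * x * (w : Perm240)⁻¹ ∈ Syl := by
    intro x hx
    have h1 : (⟨x, hQ hx⟩ : WE) ∈ P' := hP' hx
    have h2 : MulAut.conj w (⟨x, hQ hx⟩ : WE) ∈ (w • P' : Sylow 2 WE) := by
      rw [Sylow.smul_def]
      exact Subgroup.smul_mem_pointwise_smul _ _ _ h1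
    rw [hw] at h2
    exact h2
  rcases dichotomy w.2 with h | h
  · exact ⟨w, h, hmap⟩
  · refine ⟨fl 2 * (w : Perm240), ?_, fun x hx => ?_⟩
    · have hd := (mem_W1.1 h).2
      refine mem_W1.2 ⟨mul_mem (fl_mem (by norm_num)) w.2, ?_⟩
      rw [M_mul' w.2, det_mul, det_fl_one] at hd
      rw [M_mul' (fl_mem (by norm_num)), det_mul, M_fl (by norm_num), det_diagonal,
        show (∏ k : Fin 8, (sgn 2 k : ℚ)) = -1 by
          exact_mod_cast (show ∏ k : Fin 8, sgn 2 k = -1 by decide)]
      linarith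
    · rw [show fl 2 * (w : Perm240) * x * (fl 2 * (w : Perm240))⁻¹ =
        fl 2 * ((w : Perm240) * x * (w : Perm240)⁻¹) * (fl 2)⁻¹ by group]
      exact mul_mem (mul_mem fl2_mem (hmap x hx)) (inv_mem fl2_mem)

theorem fl_conj_self {k m : ℕ} (hk : k < 256) (hm : m < 256) : fl k * fl m * (fl k)⁻¹ = fl m := by
  rw [mul_inv_eq_iff_eq_mul, fl_mul hk hm, fl_mul hm hk, Nat.xor_comm]

/-- An involution moves into the frame group by a rotation. -/
theorem invol_frame {x : Perm240} (hx : x ∈ WE) (h2 : x * x = 1) :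
    ∃ u ∈ W1, ∃ m < 256, u * x * u⁻¹ = fl m := by
  have hp : IsPGroup 2 (Subgroup.zpowers x) := by
    rintro ⟨y, hy⟩
    obtain ⟨n, rfl⟩ := Subgroup.mem_zpowers_iff.1 hy
    refine ⟨1, Subtype.ext ?_⟩
    show (x ^ n) ^ 2 ^ 1 = 1
    rw [pow_one, pow_two, ← zpow_add, ← two_mul, zpow_mul, zpow_two, h2, one_zpow]
  obtain ⟨u, hu, hux⟩ := into_syl (Subgroup.zpowers_le.2 hx) hp
  obtain ⟨-, v, hv, m, hm, e⟩ := syl_invol (hux x (Subgroup.mem_zpowers x)) (by
    rw [show u * x * u⁻¹ * (u * x * u⁻¹) = u * (x * x) * u⁻¹ by group, h2, mul_one, mul_inv_cancel])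
  have e' : v * u * x * (v * u)⁻¹ = fl m := by
    rw [← e]; group
  rcases dichotomy (mul_mem hv (W1_le hu)) with h | h
  · exact ⟨v * u, h, m, hm, e'⟩
  · refine ⟨fl 1 * (v * u), ?_, m, hm, ?_⟩
    · obtain ⟨h1, hd⟩ := mem_W1.1 h
      refine mem_W1.2 ⟨mul_mem (fl_mem (by norm_num)) (mul_mem hv (W1_le hu)), ?_⟩
      rw [M_mul' (mul_mem hv (W1_le hu)), det_mul] at hd
      rw [M_mul' (fl_mem (by norm_num)), det_mul, mul_comm]
      exact hd
    · rw [show fl 1 * (v * u) * x * (fl 1 * (v * u))⁻¹ = fl 1 * (v * u * x * (v * u)⁻¹) * (fl 1)⁻¹ by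
        group, e', fl_conj_self (by norm_num) hm]

/-- An elementary subgroup of order `256` is conjugate to the frame group by a rotation. -/
theorem rank_eight {E : Subgroup Perm240} (hE : E ≤ WE) (h2 : ∀ x ∈ E, x * x = 1)
    (hcard : Nat.card E = 256) :
    ∃ u ∈ W1, ∀ m < 256, ∃ x ∈ E, u * x * u⁻¹ = fl m := by
  classical
  have hp : IsPGroup 2 E := IsPGroup.of_card (n := 8) (by rw [hcard]; norm_num)
  obtain ⟨u, hu, hux⟩ := into_syl hE hp
  have huW := W1_le hu
  let f : Perm240 → Matrix (Fin 8) (Fin 8) ℚ := fun x => M (u * x * u⁻¹)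
  have hmem : ∀ x ∈ E, u * x * u⁻¹ ∈ WE := fun x hx => Syl_le (hux x hx)
  have finj : Set.InjOn f E := fun x hx y hy e => by
    have := M_injective (lin_of_mem (hmem x hx)) (lin_of_mem (hmem y hy)) e
    exact mul_left_cancel (mul_right_cancel this)
  have fmul : ∀ x ∈ E, ∀ y ∈ E, f x * f y = f (x * y) := fun x hx y hy => by
    show M (u * x * u⁻¹) * M (u * y * u⁻¹) = M (u * (x * y) * u⁻¹)
    rw [← M_mul' (hmem x hx)]; congr 1; group
  obtain ⟨hfin, -, heq⟩ := LinAlg.sign_le (A := f '' E) ⟨1, E.one_mem, by simp [f, M_one]⟩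
    (by
      rintro _ ⟨x, hx, rfl⟩
      rw [fmul x hx x hx, h2 x hx]
      simp [f, M_one])
    (by
      rintro _ ⟨x, hx, rfl⟩ _ ⟨y, hy, rfl⟩
      have hxy : x * y = y * x := by
        have h := h2 (x * y) (mul_mem hx hy)
        calc x * y = x * (x * y * (x * y)) * y := by rw [h, mul_one]
          _ = (x * x) * (y * x) * (y * y) := by group
          _ = _ := by rw [h2 x hx, h2 y hy, one_mul, mul_one]
      rw [fmul x hx y hy, fmul y hy x hx, hxy])
  have height := heq (by
    rw [Set.InjOn.ncard_image finj, ← Nat.card_coe_set_eq]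
    simpa using hcard)
  rw [Fintype.card_fin] at height
  set S := {b ∈ f '' E | b.trace = (8 : ℕ) - (2 : ℚ)}
  have hsub : S ⊆ (Finset.univ.image fun k : Fin 8 => M (fl (2 ^ k.val)) : Set _) := by
    rintro _ ⟨⟨x, hx, rfl⟩, ht⟩
    obtain ⟨k, hk⟩ := (syl_invol (hux x hx) (by
      rw [show u * x * u⁻¹ * (u * x * u⁻¹) = u * (x * x) * u⁻¹ by group, h2 x hx, mul_one,
        mul_inv_cancel])).1 (ht.trans (by norm_num))
    simp only [Finset.coe_image, Finset.coe_univ, Set.image_univ, Set.mem_range]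
    exact ⟨k, (congrArg M hk).symm⟩
  have hall : S = (Finset.univ.image fun k : Fin 8 => M (fl (2 ^ k.val)) : Set _) := by
    refine Set.eq_of_subset_of_ncard_le hsub ?_ (Set.toFinite _)
    rw [Set.ncard_coe_finset]
    exact Finset.card_image_le.trans (by simpa using height)
  have one : ∀ k < 8, ∃ x ∈ E, u * x * u⁻¹ = fl (2 ^ k) := by
    intro k hk
    have hk' : M (fl (2 ^ k)) ∈ S := by
      rw [hall]
      simp only [Finset.coe_image, Finset.coe_univ, Set.image_univ, Set.mem_range]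
      exact ⟨⟨k, hk⟩, rfl⟩
    obtain ⟨⟨x, hx, e⟩, -⟩ := hk'
    exact ⟨x, hx, M_injective (lin_of_mem (hmem x hx))
      (lin_of_mem (fl_mem (show 2 ^ k < 256 from Nat.pow_lt_pow_right (by norm_num) hk))) e⟩
  refine ⟨u, hu, ?_⟩
  intro m
  induction m using Nat.strong_induction_on with
  | _ m ih =>
  intro hm
  by_cases h0 : m = 0
  · exact ⟨1, E.one_mem, by rw [h0, fl_zero, mul_one, mul_inv_cancel]⟩
  · set k := Nat.log 2 m
    have hk : 2 ^ k ≤ m := Nat.pow_log_le_self 2 h0
    have hk2 : m < 2 ^ (k + 1) := Nat.lt_pow_succ_log_self (by norm_num) m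
    have hk8 : k < 8 := by
      by_contra h
      have : 2 ^ 8 ≤ 2 ^ k := Nat.pow_le_pow_right (by norm_num) (by omega)
      omega
    have hlt : m ^^^ 2 ^ k < m := by
      have htb : m.testBit k = true := by
        simp only [k, ← Nat.log2_eq_log_two]
        exact Nat.testBit_log2 h0
      refine Nat.lt_of_testBit k (by simp [Nat.testBit_xor, htb]) htb fun j hj => ?_
      simp [Nat.testBit_xor, show k ≠ j by omega]
    obtain ⟨x, hx, ex⟩ := ih _ hlt (by omega)
    obtain ⟨y, hy, ey⟩ := one k hk8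
    refine ⟨x * y, mul_mem hx hy, ?_⟩
    have h2k : 2 ^ k < 256 := Nat.pow_lt_pow_right (by norm_num) hk8
    rw [show u * (x * y) * u⁻¹ = (u * x * u⁻¹) * (u * y * u⁻¹) by group, ex, ey,
      fl_mul (by omega) h2k, Nat.xor_assoc, Nat.xor_self, Nat.xor_zero]

end Cfsg.Agent.Lib.StdO8
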