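import Cfsg.Agent.Lib.StdO8.Model
import Cfsg.Agent.Lib.StdO8.SylowData

/-!
# Checks on the listed elements of the Sylow two-subgroup
-/

set_option autoImplicit false
set_option Elab.async false
set_option maxRecDepth 20000

namespace Cfsg.Agent.Lib.StdO8

open Cfsg.Agent.Lib.Computation

/-- The elements of the lower levels, as codes. -/
def tailElems : List (Level Nat) → List ℕ
  | [] => [packW 8 (fun x => x) 240]
  | L :: c => L.orb.toList.flatMap fun e => (tailElems c).map fun r => mulP 240 8 e.fwd r

/-- The product of two codes squares to one. -/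
def sqOne (a b : ℕ) : Bool :=
  forceNat a fun a => forceNat b fun b =>
    (List.range 240).all fun x => Nat.beq (getW 8 a (getW 8 b (getW 8 a (getW 8 b x)))) x

/-- The code of an involution with trace six is one of the eight, and every code moves into the frame group. -/
def invOk (c entry : ℕ) : Bool :=
  let t := taus.getD (entry / 256) 0
  okPerm 240 8 c &&
    (!Nat.beq ((List.range 8).foldl (fun acc k => acc + getW 4 (rows.getD k 0) (getW 8 c (frame.getD k 0))) 0) 28 ||
      (List.range 8).any (fun k => Nat.beq c (flC (2 ^ k)))) &&
    Nat.blt (entry / 256) taus.length &&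
    Nat.beq (mulP 240 8 t c) (mulP 240 8 (flC (entry % 256)) t)

/-- One coset of the tail. -/
def cosetOk (a tab : ℕ) : List ℕ → ℕ → Bool
  | [], _ => true
  | b :: l, i => (!sqOne a b || invOk (mulP 240 8 a b) (getW 16 tab i)) && cosetOk a tab l (i + 1)

/-- The first level of the chain. -/
def sylTop : List (Entry ℕ) := (syl_chain.headD ⟨0, [], Orbit.leaf⟩).orb.toList

theorem taus_in : taus.all inWE = true := by decide +kernel

theorem cosets_ok : ((List.range sylTop.length).all fun j =>
    cosetOk (sylTop.getD j ⟨0, 0, 0, 0, 0, 0⟩).fwd (invTab.getD j 0) (tailElems syl_chain.tail) 0) = true := by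
  decide +kernel

end Cfsg.Agent.Lib.StdO8
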